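import Mathlib
/-!
Eigenvalues of endomorphisms of finite modules over local rings with algebraically closed residue field.
-/

set_option autoImplicit false

universe u v

open TensorProduct IsLocalRing

namespace Groth.Agent.ShStabLib

theorem exists_scalar_not_bijective {k : Type u} [Field k] [IsAlgClosed k] {R : Type u} [CommRing R] [IsLocalRing R]
    (ψ : k →+* R) (hψ : Function.Surjective ((residue R).comp ψ)) {M : Type v} [AddCommGroup M] [Module R M]
    [Module.Finite R M] [Nontrivial M] (f : M →ₗ[R] M) :
    ∃ c : k, ¬ Function.Bijective (f - ψ c • LinearMap.id : M →ₗ[R] M) := by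
  haveI : IsAlgClosed (ResidueField R) :=
    IsAlgClosed.of_ringEquiv k _ (RingEquiv.ofBijective _ ⟨((residue R).comp ψ).injective, hψ⟩)
  haveI : Nontrivial (ResidueField R ⊗[R] M) := by
    rw [← not_subsingleton_iff_nontrivial, IsLocalRing.subsingleton_tensorProduct]
    exact not_subsingleton M
  obtain ⟨μ, hμ⟩ := Module.End.exists_eigenvalue (f.baseChange (ResidueField R))
  obtain ⟨c, rfl⟩ := hψ μ
  refine ⟨c, fun hb => ?_⟩
  obtain ⟨v, hv⟩ := hμ.exists_hasEigenvector
  have he : ((f - ψ c • LinearMap.id : M →ₗ[R] M).baseChange (ResidueField R)) v = 0 := by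
    have h := Module.End.mem_eigenspace_iff.1 hv.1
    rw [LinearMap.baseChange_sub, LinearMap.baseChange_smul, LinearMap.baseChange_id, LinearMap.sub_apply,
      LinearMap.smul_apply, LinearMap.id_apply, h, ← algebraMap_smul (ResidueField R) (ψ c) v]
    exact sub_self _
  let e := (LinearEquiv.ofBijective (f - ψ c • LinearMap.id : M →ₗ[R] M) hb).baseChange R (ResidueField R) M M
  exact hv.2 (e.injective (he.trans (map_zero e).symm))

end Groth.Agent.ShStabLib
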