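import Groth.Agent.ShStabLib.Hom
import Groth.Agent.ShStabLib.Eigen
import Groth.Agent.FactorOne.Basic
import Groth.Agent.PullbackMod.OpenLocus
import Mathlib.AlgebraicGeometry.AlgClosed.Basic
/-!
Stable modules over algebraically closed fields are simple.
-/

set_option autoImplicit false
set_option backward.isDefEq.respectTransparency false
set_option linter.style.haveILetI false

universe u

open CategoryTheory CategoryTheory.Limits AlgebraicGeometry Polynomial TopologicalSpace
open Groth.Agent.DevLib Groth.Agent.QCohLib Groth.Agent.HilbLib StabCat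

noncomputable section

namespace Groth.Agent.ShStabLib

variable (k : Type u) [Field k] [IsAlgClosed k] {X : Scheme.{u}} [X.Over (Spec (CommRingCat.of k))]
  [IsProper (X ↘ Spec (CommRingCat.of k))]

theorem residue_toGlobal_surjective (x : X) (hx : IsClosed ({x} : Set X)) :
    Function.Surjective ((IsLocalRing.residue (X.presheaf.stalk x)).comp
      ((X.presheaf.germ ⊤ x trivial).hom.comp (Coh.toGlobal (X ↘ Spec (CommRingCat.of k))))) := by
  let f := X ↘ Spec (CommRingCat.of k)
  let φ : CommRingCat.of k ⟶ X.residueField x :=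
    (Scheme.ΓSpecIso (CommRingCat.of k)).inv ≫ f.appTop ≫ X.presheaf.germ ⊤ x trivial ≫ X.residue x
  suffices h : φ = (residueFieldIsoBase f x hx).inv by
    have hb : Function.Surjective φ.hom := by
      rw [h]; exact fun y => ⟨(residueFieldIsoBase f x hx).hom y, Iso.hom_inv_id_apply _ y⟩
    exact hb
  rw [← cancel_mono (Scheme.ΓSpecIso (X.residueField x)).inv,
    Scheme.ΓSpecIso_inv_naturality (residueFieldIsoBase f x hx).inv,
    SpecMap_residueFieldIsoBase_inv, Scheme.Hom.comp_appTop]
  simp only [φ, f, Category.assoc, Scheme.fromSpecResidueField, Scheme.Hom.comp_appTop, Scheme.fromSpecStalk_appTop,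
    Scheme.ΓSpecIso_inv_naturality]
  simp

theorem exists_eq_mulEnd {L E : X.Modules} {d : ℕ} (hamp : CohB1.IsAmple L) (hE : ShStab.IsStable k X L E d)
    (φ : E ⟶ E) : ∃ c : k, φ = FactorOne.mulEnd E (Coh.toGlobal (X ↘ Spec (CommRingCat.of k)) c) := by
  haveI := EulerIneqLib.isNoetherian_proper (X := X) k
  obtain ⟨x, hx, hxc⟩ := (isClosed_support hE.1).exists_closed_singleton
    (Set.nonempty_iff_ne_empty.2 fun h => hE.2.1 (isZero_of_support_empty h))
  haveI := hE.1.1
  haveI := PullbackMod.finite_stalk_of_isFT (M := E) hE.1.2 x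
  haveI : Nontrivial (E.presheaf.stalk x) := not_subsingleton_iff_nontrivial.1 hx
  obtain ⟨c, hc⟩ := exists_scalar_not_bijective _ (residue_toGlobal_surjective k x hxc) (PullbackMod.stalkLin φ x)
  refine ⟨c, by_contra fun hne => hc ?_⟩
  set g := φ - FactorOne.mulEnd E (Coh.toGlobal (X ↘ Spec (CommRingCat.of k)) c)
  haveI := isIso_endo k hamp hE g (sub_ne_zero.2 hne)
  have e : PullbackMod.stalkLin g x = PullbackMod.stalkLin φ x -
      (X.presheaf.germ ⊤ x trivial).hom (Coh.toGlobal (X ↘ Spec (CommRingCat.of k)) c) • LinearMap.id := by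
    refine LinearMap.ext fun z => ?_
    obtain ⟨U, hxU, m, rfl⟩ := TopCat.Presheaf.exists_germ_eq E.presheaf z
    rw [LinearMap.sub_apply, LinearMap.smul_apply, LinearMap.id_apply, PullbackMod.stalkLin_germ,
      PullbackMod.stalkLin_germ]
    show E.presheaf.germ U x hxU (φ.app U m - (FactorOne.mulEnd E _).app U m) = _
    rw [map_sub, FactorOne.mulEnd_app, HomLib.germ_smul', TopCat.Presheaf.germ_res_apply]
  have hb : Function.Bijective (PullbackMod.stalkLin g x) := by
    refine Function.bijective_iff_has_inverse.2 ⟨PullbackMod.stalkLin (inv g) x, fun z => ?_, fun z => ?_⟩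
    · rw [← LinearMap.comp_apply, ← PullbackMod.stalkLin_comp, IsIso.hom_inv_id, PullbackMod.stalkLin_id]; rfl
    · rw [← LinearMap.comp_apply, ← PullbackMod.stalkLin_comp, IsIso.inv_hom_id, PullbackMod.stalkLin_id]; rfl
  rw [e] at hb
  exact hb

end Groth.Agent.ShStabLib
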