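import Groth.Agent.ShStabLib.Core
import Groth.Agent.AmpleEmb.Generated
/-!
Ascending chains of coherent submodules of a coherent module stabilise.
-/

set_option autoImplicit false
set_option backward.isDefEq.respectTransparency false
set_option linter.style.haveILetI false

universe u

open CategoryTheory CategoryTheory.Limits AlgebraicGeometry TopologicalSpace
open Groth.Agent.DevLib Groth.Agent.QCohLib Groth.Agent.PullbackMod

noncomputable section

namespace Groth.Agent.ShStabLib

variable {X : Scheme.{u}}

theorem isCoh_of_iso {M N : X.Modules} (e : M ≅ N) (h : Coh.IsCoh M) : Coh.IsCoh N := by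
  haveI : Coh.IsQCoh N := (SheafOfModules.isQuasicoherent X.ringCatSheaf).prop_of_iso e h.1
  refine QCohLib.isCoh_of_finite N fun W hW => ?_
  haveI := QCohLib.finite_sections_of_isCoh h hW
  exact Module.Finite.of_surjective (appLinear e.hom W)
    fun y => ⟨e.inv.app W y, congrArg (fun g => g.app W y) e.inv_hom_id⟩

/-- Coherent submodules. -/
abbrev CSub (E : X.Modules) : Type _ := {A : Subobject E // Coh.IsCoh (A : X.Modules)}

/-- The coherent submodule of a monomorphism. -/
def CSub.mk {E F : X.Modules} (ι : F ⟶ E) [Mono ι] (h : Coh.IsCoh F) : CSub E :=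
  ⟨Subobject.mk ι, isCoh_of_iso (Subobject.underlyingIso ι).symm h⟩

theorem wellFoundedGT_cSub [AlgebraicGeometry.IsNoetherian X] {E : X.Modules} (hE : Coh.IsCoh E) :
    WellFoundedGT (CSub E) := by
  classical
  rw [wellFoundedGT_iff_monotone_chain_condition]
  intro f
  have hcov : ∀ x : X, ∃ U : X.Opens, IsAffineOpen U ∧ x ∈ U := fun x =>
    (exists_isAffineOpen_mem_and_subset (Opens.mem_top x)).imp fun U h => ⟨h.1, h.2.1⟩
  choose U hU hxU using hcov
  obtain ⟨σ, hσ⟩ := (CompactSpace.isCompact_univ (X := X)).elim_finite_subcover (fun x => (U x : Set X))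
    (fun x => (U x).2) fun x _ => Set.mem_iUnion.2 ⟨x, hxU x⟩
  have hstab : ∀ x, ∃ n, ∀ m, n ≤ m → LinearMap.range (appLinear (f n).1.arrow (U x)) =
      LinearMap.range (appLinear (f m).1.arrow (U x)) := fun x => by
    haveI := isNoetherianRing_section (hU x)
    haveI := finite_sections_of_isCoh hE (hU x)
    haveI : _root_.IsNoetherian Γ(X, U x) Γ(E, U x) := inferInstance
    obtain ⟨n, hn⟩ := monotone_stabilizes_iff_noetherian.2 ‹_›
      ⟨fun m => LinearMap.range (appLinear (f m).1.arrow (U x)), fun a b hab => by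
        rintro _ ⟨s, rfl⟩
        refine ⟨(Subobject.ofLE (f a).1 (f b).1 (f.monotone hab)).app (U x) s, ?_⟩
        exact congrArg (fun g => g.app (U x) s) (Subobject.ofLE_arrow (f.monotone hab))⟩
    exact ⟨n, hn⟩
  choose n hn using hstab
  refine ⟨σ.sup n, fun m hm => ?_⟩
  set N := σ.sup n
  let φ := Subobject.ofLE (f N).1 (f m).1 (f.monotone hm)
  have hepi : Epi φ := by
    refine (PullbackMod.epi_iff_stalk φ).2 fun y => ?_
    obtain ⟨x, hx, hyx⟩ := Set.mem_iUnion₂.1 (hσ (Set.mem_univ y))
    haveI := (f m).2.1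
    have hspan := AmpleEmb.span_germ_eq_top ((f m).1 : X.Modules) (hU x) (x := y) hyx
      (S := Set.univ) Submodule.span_univ
    have hle : Submodule.span (X.presheaf.stalk y)
        ((fun s => ((f m).1 : X.Modules).presheaf.germ (U x) y hyx s) '' Set.univ) ≤ LinearMap.range (stalkLin φ y) := by
      rw [Submodule.span_le]
      rintro _ ⟨s, -, rfl⟩
      have hs : (f m).1.arrow.app (U x) s ∈ LinearMap.range (appLinear (f N).1.arrow (U x)) := by
        rw [← hn x N (Finset.le_sup hx), hn x m ((Finset.le_sup hx).trans hm)]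
        exact ⟨s, rfl⟩
      obtain ⟨t, ht⟩ := hs
      haveI := (toAbF X).map_mono (f m).1.arrow
      have hts : φ.app (U x) t = s := CohBase.sections_injective ((toAbF X).map (f m).1.arrow) (U x)
        ((congrArg (fun g => g.app (U x) t) (Subobject.ofLE_arrow (f.monotone hm))).trans ht)
      refine ⟨((f N).1 : X.Modules).presheaf.germ (U x) y hyx t, ?_⟩
      rw [stalkLin_germ, hts]
    intro z
    exact hle (hspan.ge (Submodule.mem_top (x := z)))
  haveI : IsIso φ := isIso_of_mono_of_epi φ
  exact Subtype.ext (le_antisymm (f.monotone hm) (Subobject.le_of_comm (inv φ) (by simp [φ])))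

/-- A nonempty family of coherent submodules has a maximal element above any member. -/
theorem exists_maximal [AlgebraicGeometry.IsNoetherian X] {E : X.Modules} (hE : Coh.IsCoh E)
    (p : CSub E → Prop) {A : CSub E} (hA : p A) : ∃ B, A ≤ B ∧ p B ∧ ∀ C, p C → B ≤ C → C = B := by
  haveI := wellFoundedGT_cSub hE
  obtain ⟨B, hAB, hB⟩ := exists_maximal_ge_of_wellFoundedGT p A hA
  exact ⟨B, hAB, hB.prop, fun C hC hBC => le_antisymm (hB.le_of_ge hC hBC) hBC⟩

end Groth.Agent.ShStabLib
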