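import Groth.Agent.ShStabLib.Saturation
/-!
The dimension of the support is the degree of the Hilbert polynomial.
-/

set_option autoImplicit false
set_option backward.isDefEq.respectTransparency false
set_option linter.style.haveILetI false

universe u

open CategoryTheory CategoryTheory.Limits AlgebraicGeometry Polynomial TopologicalSpace
open Groth.Agent.DevLib Groth.Agent.QCohLib Groth.Agent.HilbLib StabCat

noncomputable section

namespace Groth.Agent.ShStabLib

variable (k : Type u) [Field k] {X : Scheme.{u}} [X.Over (Spec (CommRingCat.of k))]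
  [IsProper (X ↘ Spec (CommRingCat.of k))]

include k in
theorem exists_dim_bound : ∃ N : ℕ, topologicalKrullDim X < (N : WithBot ℕ∞) := by
  classical
  haveI := EulerIneqLib.isNoetherian_proper (X := X) k
  have hcov : ∀ x : X, ∃ U : X.Opens, IsAffineOpen U ∧ x ∈ U := fun x =>
    (exists_isAffineOpen_mem_and_subset (Opens.mem_top x)).imp fun U h => ⟨h.1, h.2.1⟩
  choose U hU hxU using hcov
  obtain ⟨σ, hσ⟩ := (CompactSpace.isCompact_univ (X := X)).elim_finite_subcover (fun x => (U x : Set X))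
    (fun x => (U x).2) fun x _ => Set.mem_iUnion.2 ⟨x, hxU x⟩
  have hb : ∀ x, ∃ m : ℕ, topologicalKrullDim ↥(U x) ≤ (m : WithBot ℕ∞) := fun x => by
    have hft : ((X ↘ Spec (CommRingCat.of k)).appLE ⊤ (U x) (by simp)).hom.FiniteType :=
      LocallyOfFiniteType.finiteType_appLE _ (isAffineOpen_top _) (hU x) _
    have hft' : ((Scheme.ΓSpecIso (CommRingCat.of k)).inv ≫
        (X ↘ Spec (CommRingCat.of k)).appLE ⊤ (U x) (by simp)).hom.FiniteType :=
      hft.comp (RingHom.FiniteType.of_surjective _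
        (Scheme.ΓSpecIso (CommRingCat.of k)).symm.commRingCatIsoToRingEquiv.surjective)
    letI : Algebra k Γ(X, U x) := RingHom.toAlgebra ((Scheme.ΓSpecIso (CommRingCat.of k)).inv ≫
        (X ↘ Spec (CommRingCat.of k)).appLE ⊤ (U x) (by simp)).hom
    haveI : Algebra.FiniteType k Γ(X, U x) := hft'
    obtain ⟨m, f, hf⟩ := Algebra.FiniteType.iff_quotient_mvPolynomial''.1 ‹Algebra.FiniteType k Γ(X, U x)›
    refine ⟨m, ?_⟩
    have h1 := ringKrullDim_le_of_surjective f.toRingHom hf
    rw [MvPolynomial.ringKrullDim_of_isNoetherianRing, ringKrullDim_eq_zero_of_field, zero_add, Nat.card_fin] at h1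
    refine le_trans (le_of_eq ?_) h1
    rw [← PrimeSpectrum.topologicalKrullDim_eq_ringKrullDim Γ(X, U x)]
    exact IsHomeomorph.topologicalKrullDim_eq _ ((hU x).isoSpec.hom.homeomorph.isHomeomorph)
  choose m hm using hb
  refine ⟨σ.sup m + 1, ?_⟩
  by_contra h
  have h' : ¬ topologicalKrullDim (Set.univ : Set X) < ((σ.sup m + 1 : ℕ) : WithBot ℕ∞) := by
    rwa [(Homeomorph.Set.univ X).isHomeomorph.topologicalKrullDim_eq]
  obtain ⟨p, -, hp'⟩ := (not_dim_lt_iff isClosed_univ _).1 h'
  obtain ⟨x, hx, hxp⟩ := Set.mem_iUnion₂.1 (hσ (Set.mem_univ (p 0)))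
  have hall : ∀ i, p i ∈ U x := fun i => by
    rcases eq_or_ne i 0 with rfl | h0
    · exact hxp
    · exact (hp' 0 i (Fin.pos_of_ne_zero h0)).1.mem_open (U x).2 hxp
  let q : Fin (σ.sup m + 2) → (U x : Scheme.{u}) := fun i => ⟨p i, hall i⟩
  have hc : HasChain (σ.sup m + 1) (Set.univ : Set (U x : Scheme.{u})) :=
    ⟨q, fun i => trivial, fun i j hij => ⟨(subtype_specializes_iff _ _).2 (hp' i j hij).1,
      fun e => (hp' i j hij).2 (congrArg Subtype.val e)⟩⟩
  refine (not_dim_lt_iff isClosed_univ _).2 hc (lt_of_le_of_lt ?_ (show ((σ.sup m : ℕ) : WithBot ℕ∞) < ((σ.sup m + 1 : ℕ) : WithBot ℕ∞) by exact_mod_cast Nat.lt_succ_self _))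
  rw [(Homeomorph.Set.univ (U x : Scheme.{u})).isHomeomorph.topologicalKrullDim_eq]
  exact le_trans (hm x) (by exact_mod_cast Finset.le_sup hx)

theorem dim_eq_natDegree {L M : X.Modules} (hamp : CohB1.IsAmple L) (hM : Coh.IsCoh M) (h0 : ¬ IsZero M)
    {P : ℚ[X]} (hP : HP k L M P) : topologicalKrullDim (CohB1.support M) = (P.natDegree : WithBot ℕ∞) := by
  classical
  haveI := EulerIneqLib.isNoetherian_proper (X := X) k
  obtain ⟨N, hN⟩ := exists_dim_bound k (X := X)
  have hcl := isClosed_support hM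
  have hd : topologicalKrullDim (CohB1.support M) < (N : WithBot ℕ∞) :=
    lt_of_le_of_lt Topology.IsInducing.subtypeVal.topologicalKrullDim_le hN
  have hne : HasChain 0 (CohB1.support M) := by
    obtain ⟨x, hx⟩ := Set.nonempty_iff_ne_empty.2 fun h => h0 (isZero_of_support_empty h)
    exact ⟨fun _ => x, fun _ => hx, fun i j h => absurd h (by simp [Fin.fin_one_eq_zero i, Fin.fin_one_eq_zero j])⟩
  set j := Nat.findGreatest (fun j => HasChain j (CohB1.support M)) N
  have hj : HasChain j (CohB1.support M) :=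
    Nat.findGreatest_spec (P := fun j => HasChain j (CohB1.support M)) (Nat.zero_le N) hne
  have hjN : j < N := lt_of_le_of_ne (Nat.findGreatest_le N) fun e =>
    (not_dim_lt_iff hcl N).2 (e ▸ hj) hd
  have hjd : DimLE j M := by
    by_contra h
    exact Nat.findGreatest_is_greatest (P := fun j => HasChain j (CohB1.support M)) (Nat.lt_succ_self j) hjN
      ((not_dim_lt_iff hcl (j + 1)).1 h)
  have hdeg := degree_lt k hamp hM hjd hP
  have hpos := coeff_pos k hamp j M hM hjd P hdeg hP hj
  have hnat : P.natDegree = j := le_antisymm (natDegree_le_iff_coeff_eq_zero.2 fun m hm =>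
    (degree_lt_iff_coeff_zero P (j + 1)).1 hdeg m hm) (le_natDegree_of_ne_zero hpos.ne')
  rw [hnat]
  exact dim_eq_of_not_lt hjd ((not_dim_lt_iff hcl j).2 hj)

end Groth.Agent.ShStabLib
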