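import Groth.Agent.ShStabLib.Saturation
/-!
Criteria for semistability and stability.
-/

set_option autoImplicit false
set_option backward.isDefEq.respectTransparency false
set_option linter.style.haveILetI false

universe u

open CategoryTheory CategoryTheory.Limits AlgebraicGeometry Polynomial TopologicalSpace
open Groth.Agent.DevLib Groth.Agent.QCohLib Groth.Agent.HilbLib StabCat

noncomputable section

namespace Groth.Agent.ShStabLib

theorem alpha_topPart (ℓ d : ℕ) (P : ℚ[X]) : alpha d (topPart ℓ d P) = alpha d P := by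
  simp [alpha, topPart, coeff_monomial]

theorem coeff_topPart (ℓ d : ℕ) (P : ℚ[X]) (i : ℕ) :
    (topPart ℓ d P).coeff i = if i ∈ Finset.Icc (d - ℓ) d then P.coeff i else 0 := by
  rw [topPart, finsetSum_coeff]
  simp [coeff_monomial]

theorem cr_topPart (ℓ d : ℕ) (P Q : ℚ[X]) :
    cr d (topPart ℓ d P) (topPart ℓ d Q) = topPart ℓ d (cr d P Q) := by
  ext i
  simp only [cr, alpha_topPart, coeff_sub, Polynomial.coeff_smul, coeff_topPart, smul_eq_mul]
  split_ifs <;> simp

theorem topPart_self {d : ℕ} {P : ℚ[X]} (hP : P.degree < ((d + 1 : ℕ) : WithBot ℕ)) : topPart d d P = P := by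
  ext i
  rw [coeff_topPart]
  split_ifs with h
  · rfl
  · simp only [Finset.mem_Icc, Nat.sub_self, zero_le, true_and, not_le] at h
    exact ((degree_lt_iff_coeff_zero P (d + 1)).1 hP i h).symm

theorem lc_topPart_nonneg (ℓ : ℕ) {d : ℕ} {C : ℚ[X]} (hC : C.degree < ((d + 1 : ℕ) : WithBot ℕ))
    (h : 0 ≤ C.leadingCoeff) : 0 ≤ (topPart ℓ d C).leadingCoeff := by
  rcases eq_or_ne (topPart ℓ d C) 0 with h0 | h0
  · simp [h0]
  have hne : (topPart ℓ d C).coeff (topPart ℓ d C).natDegree ≠ 0 := leadingCoeff_ne_zero.2 h0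
  rw [coeff_topPart] at hne
  by_cases hi : (topPart ℓ d C).natDegree ∈ Finset.Icc (d - ℓ) d
  swap
  · exact absurd (if_neg hi) hne
  rw [if_pos hi] at hne
  have hC0 : C ≠ 0 := fun e => hne (by simp [e])
  have hmem : C.natDegree ∈ Finset.Icc (d - ℓ) d := by
    have h1 := le_natDegree_of_ne_zero hne
    have h2 : C.natDegree < d + 1 := by
      rw [degree_eq_natDegree hC0] at hC
      exact_mod_cast hC
    simp only [Finset.mem_Icc] at hi ⊢
    omega
  have he : (topPart ℓ d C).natDegree = C.natDegree := by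
    refine le_antisymm (le_natDegree_of_ne_zero hne) (le_natDegree_of_ne_zero ?_)
    rw [coeff_topPart, if_pos hmem]
    exact leadingCoeff_ne_zero.2 hC0
  rw [leadingCoeff, coeff_topPart, if_pos hi, he]
  exact h

theorem degree_smul_lt {d : ℕ} {P : ℚ[X]} (hP : P.degree < (d : WithBot ℕ)) (a : ℚ) : (a • P).degree < (d : WithBot ℕ) :=
  (degree_smul_le a P).trans_lt hP

theorem cr_degree_lt {d : ℕ} {P Q : ℚ[X]} (hP : P.degree < ((d + 1 : ℕ) : WithBot ℕ))
    (hQ : Q.degree < ((d + 1 : ℕ) : WithBot ℕ)) : (cr d P Q).degree < ((d + 1 : ℕ) : WithBot ℕ) :=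
  degree_lt_sub (degree_smul_lt hQ _) (degree_smul_lt hP _)

theorem hatSlope_le_of_cr {d : ℕ} (hd : 1 ≤ d) {P Q : ℚ[X]} (hP : 0 < alpha d P) (hQ : 0 < alpha d Q)
    (h : 0 ≤ (topPart 1 d (cr d P Q)).leadingCoeff) : hatSlope d P ≤ hatSlope d Q := by
  set T := topPart 1 d (cr d P Q)
  have hd0 : T.coeff d = 0 := by
    simp only [T, coeff_topPart, cr, coeff_sub, Polynomial.coeff_smul, smul_eq_mul, alpha]
    split_ifs <;> ring
  have hc : 0 ≤ T.coeff (d - 1) := by
    rcases eq_or_ne T 0 with h0 | h0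
    · simp [h0]
    have h1 : T.natDegree ∈ Finset.Icc (d - 1) d := by
      by_contra hn
      exact leadingCoeff_ne_zero.2 h0 (by
        show (topPart 1 d (cr d P Q)).coeff T.natDegree = 0
        rw [coeff_topPart, if_neg hn])
    have h2 : T.natDegree ≠ d := fun e => leadingCoeff_ne_zero.2 h0 (by rw [leadingCoeff, e, hd0])
    have h3 : T.natDegree = d - 1 := by simp only [Finset.mem_Icc] at h1; omega
    rwa [leadingCoeff, h3] at h
  simp only [T, coeff_topPart, Finset.mem_Icc, le_refl, Nat.sub_le, and_self, if_true, cr, coeff_sub,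
    Polynomial.coeff_smul, smul_eq_mul] at hc
  rw [hatSlope, hatSlope, div_le_div_iff₀ hP hQ]
  have hf : (0 : ℚ) < ((d - 1).factorial : ℚ) := by exact_mod_cast Nat.factorial_pos _
  simp only [alpha] at hc ⊢
  nlinarith [mul_nonneg hf.le hc]

variable (k : Type u) [Field k] {X : Scheme.{u}} [X.Over (Spec (CommRingCat.of k))]
  [IsProper (X ↘ Spec (CommRingCat.of k))] {L : X.Modules} {d : ℕ} {E : X.Modules} (hamp : CohB1.IsAmple L)
include hamp

theorem isPure_of_isSS (hE : Coh.IsCoh E) (h0 : ¬ IsZero E)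
    (hdim : topologicalKrullDim (CohB1.support E) = (d : WithBot ℕ∞)) (h : IsSS Coh.IsCoh (ShStab.IsHilbPoly k X L) d E) :
    ShStab.IsPure X E d := by
  intro F ι _ hF hF0
  have hdE : DimLE d E := by rw [DimLE, hdim]; exact_mod_cast Nat.lt_succ_self d
  have hdF := dimLE_of_mono hdE ι
  refine dim_eq_of_not_lt hdF fun hlt => ?_
  by_cases hi : IsIso ι
  · refine lt_irrefl (d : WithBot ℕ∞) (lt_of_le_of_lt (le_of_eq hdim.symm) (lt_of_le_of_lt ?_ hlt))
    exact (Topology.IsEmbedding.inclusion (support_subset_of_epi ι)).isInducing.topologicalKrullDim_le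
  obtain ⟨pF, -, hpF⟩ := exists_hp k hamp hF hdF
  obtain ⟨pE, -, hpE⟩ := exists_hp k hamp hE hdE
  have h1 := h F ι inferInstance hF hF0 hi pF pE hpF hpE
  rw [redLE_iff, cr, alpha_eq_zero k hamp hF hlt hpF, zero_smul, zero_sub, leadingCoeff_neg, lc_smul] at h1
  have := mul_pos (alpha_pos k hamp hE hdE (by rw [hdim]; exact lt_irrefl _) hpE) (lc_pos k hamp hF hF0 hdF hpF)
  linarith

theorem isSemistable_iff_isSS (hE : Coh.IsCoh E) (h0 : ¬ IsZero E)
    (hdim : topologicalKrullDim (CohB1.support E) = (d : WithBot ℕ∞)) :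
    ShStab.IsSemistable k X L E d ↔ IsSS Coh.IsCoh (ShStab.IsHilbPoly k X L) d E :=
  ⟨fun h => h.2.2.2, fun h => ⟨hE, h0, isPure_of_isSS k hamp hE h0 hdim h, h⟩⟩

theorem isStable_iff_isSt (hE : Coh.IsCoh E) (h0 : ¬ IsZero E)
    (hdim : topologicalKrullDim (CohB1.support E) = (d : WithBot ℕ∞)) :
    ShStab.IsStable k X L E d ↔ IsSt Coh.IsCoh (ShStab.IsHilbPoly k X L) d E :=
  ⟨fun h => h.2.2.2, fun h => ⟨hE, h0, isPure_of_isSS k hamp hE h0 hdim fun F ι hm hF hF0 hi pF pE a b =>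
    redLE_of_lt (h F ι hm hF hF0 hi pF pE a b), h⟩⟩

theorem not_iso_of_alpha_lt {F : X.Modules} {ι : F ⟶ E} {pF pE : ℚ[X]} (pf : HP k L F pF) (pe : HP k L E pE)
    (h : alpha d pF < alpha d pE) : ¬ IsIso ι := fun _ =>
  h.ne (congrArg (alpha d) (hp_unique k (hp_iso k (asIso ι) pf) pe))

theorem not_isZero_of_alpha_pos {F : X.Modules} {pF : ℚ[X]} (pf : HP k L F pF) (h : 0 < alpha d pF) :
    ¬ IsZero F := fun h0 => by
  rw [hp_unique k pf (Q := 0) fun m => by rw [eval_zero]; exact chi_isZero k hamp.1 h0 m, alpha_zero] at h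
  exact lt_irrefl _ h

theorem isEllSemistable_of_isSemistable (ℓ : ℕ) (hE : ShStab.IsSemistable k X L E d) :
    ShStab.IsEllSemistable k X L E d ℓ := by
  refine ⟨hE.1, hE.2.1, hE.2.2.1, fun F ι _ hF pF pE pf pe hpos hlt => ?_⟩
  have h := ss_le k hamp hE ι hF (not_isZero_of_alpha_pos k hamp pf hpos) pf pe
  have hdE := dimLE_of_isPure hE.1 hE.2.2.1
  rw [redLE_iff] at h ⊢
  rw [cr_topPart]
  exact lc_topPart_nonneg ℓ (cr_degree_lt (degree_lt k hamp hF (dimLE_of_mono hdE ι) pf)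
    (degree_lt k hamp hE.1 hdE pe)) h

/-- A proper submodule either has smaller multiplicity, or a strictly smaller reduced polynomial. -/
theorem alpha_lt_or_redLT (hE : Coh.IsCoh E) (hd : DimLE d E) {F : X.Modules} (ι : F ⟶ E) [Mono ι] (hF : Coh.IsCoh F)
    (hni : ¬ IsIso ι) {pF pE : ℚ[X]} (pf : HP k L F pF) (pe : HP k L E pE) (hpos : 0 < alpha d pF) :
    alpha d pF < alpha d pE ∨ RedLT d pF pE := by
  rcases (alpha_le_of_mono k hamp ι hF hE hd pf pe).eq_or_lt with h | h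
  swap
  · exact Or.inl h
  obtain ⟨Q, hQ, rfl, hQc, hQd⟩ := exists_hp_coker k hamp ι hF hE hd pf pe
  rw [alpha_add, left_eq_add] at h
  exact Or.inr (redLT_add_of_alpha_eq_zero h hpos (lc_pos k hamp hQc
    (fun h0 => hni (haveI := Preadditive.epi_of_isZero_cokernel ι h0; isIso_of_mono_of_epi ι)) hQd hQ))

theorem isSemistable_iff_isEllSemistable_self :
    ShStab.IsSemistable k X L E d ↔ ShStab.IsEllSemistable k X L E d d := by
  refine ⟨isEllSemistable_of_isSemistable k hamp d, fun ⟨hE, h0, hp, h⟩ => ⟨hE, h0, hp, ?_⟩⟩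
  intro F ι hm hF hF0 hni pF pE pf pe
  have hd := dimLE_of_isPure hE hp
  have hpos := alpha_pos_of_isPure k hamp hF hF0 (isPure_of_mono hp ι) pf
  rcases alpha_lt_or_redLT k hamp hE hd ι hF hni pf pe hpos with hl | hl
  · have := h F ι hm hF pF pE pf pe hpos hl
    rwa [topPart_self (degree_lt k hamp hF (dimLE_of_mono hd ι) pf), topPart_self (degree_lt k hamp hE hd pe)] at this
  · exact redLE_of_lt hl

theorem isStable_iff_isEllStable_self :
    ShStab.IsStable k X L E d ↔ ShStab.IsEllStable k X L E d d := by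
  constructor
  · rintro ⟨hE, h0, hp, h⟩
    refine ⟨hE, h0, hp, fun F ι hm hF pF pE pf pe hpos hlt => ?_⟩
    have hd := dimLE_of_isPure hE hp
    rw [topPart_self (degree_lt k hamp hF (dimLE_of_mono hd ι) pf), topPart_self (degree_lt k hamp hE hd pe)]
    exact h F ι hm hF (not_isZero_of_alpha_pos k hamp pf hpos) (not_iso_of_alpha_lt k hamp pf pe hlt) pF pE pf pe
  · rintro ⟨hE, h0, hp, h⟩
    refine ⟨hE, h0, hp, fun F ι hm hF hF0 hni pF pE pf pe => ?_⟩
    have hd := dimLE_of_isPure hE hp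
    have hpos := alpha_pos_of_isPure k hamp hF hF0 (isPure_of_mono hp ι) pf
    rcases alpha_lt_or_redLT k hamp hE hd ι hF hni pf pe hpos with hl | hl
    · have := h F ι hm hF pF pE pf pe hpos hl
      rwa [topPart_self (degree_lt k hamp hF (dimLE_of_mono hd ι) pf), topPart_self (degree_lt k hamp hE hd pe)] at this
    · exact hl

theorem isMuSemistable_of_isSemistable (hd1 : 1 ≤ d) (hE : ShStab.IsSemistable k X L E d) :
    ShStab.IsMuSemistable k X L E d := by
  have hp := hE.2.2.1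
  refine ⟨hE.1, hE.2.1, hp E (𝟙 E) inferInstance hE.1 hE.2.1, fun F ι hm hF => ?_,
    fun F ι hm hF pF pE pf pe hpos hlt => ?_⟩
  · by_cases h0 : IsZero F
    · rw [support_eq_empty_of_isZero h0]
      haveI : IsEmpty (IrreducibleCloseds (∅ : Set X)) := ⟨fun c => by
        obtain ⟨z, -⟩ := c.isIrreducible.nonempty
        exact z.2⟩
      rw [topologicalKrullDim, Order.krullDim_eq_bot, WithBot.bot_add]
      exact WithBot.bot_ne_coe
    · rw [hp F ι hm hF h0]
      intro h
      have : d + 1 = d := by exact_mod_cast h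
      omega
  · have h := (isEllSemistable_of_isSemistable k hamp 1 hE).2.2.2 F ι hm hF pF pE pf pe hpos hlt
    rw [redLE_iff, cr_topPart] at h
    exact hatSlope_le_of_cr hd1 hpos (hpos.trans hlt) h

theorem semistable_tfae (hE : Coh.IsCoh E) (h0 : ¬ IsZero E) (hp : ShStab.IsPure X E d) :
    [ShStab.IsSemistable k X L E d,
      ∀ (F : X.Modules) (ι : F ⟶ E), Mono ι → Coh.IsCoh F → ¬ IsZero F → ¬ IsIso ι →
        ShStab.IsPure X (cokernel ι) d →
        ∀ (pF pE : ℚ[X]), ShStab.IsHilbPoly k X L F pF → ShStab.IsHilbPoly k X L E pE → RedLE d pF pE,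
      ∀ (G : X.Modules) (π : E ⟶ G), Epi π → Coh.IsCoh G → ¬ IsIso π →
        ∀ (pE pG : ℚ[X]), ShStab.IsHilbPoly k X L E pE → ShStab.IsHilbPoly k X L G pG → 0 < alpha d pG →
          RedLE d pE pG,
      ∀ (G : X.Modules) (π : E ⟶ G), Epi π → Coh.IsCoh G → ¬ IsZero G → ¬ IsIso π →
        ShStab.IsPure X G d →
        ∀ (pE pG : ℚ[X]), ShStab.IsHilbPoly k X L E pE → ShStab.IsHilbPoly k X L G pG → RedLE d pE pG].TFAE := by
  haveI := EulerIneqLib.isNoetherian_proper (X := X) k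
  have hd := dimLE_of_isPure hE hp
  tfae_have 1 → 3 := fun h G π _ hG _ pE pG pe pg _ => ss_quot k hamp h π hG pe pg
  tfae_have 3 → 4 := fun h G π hπ hG hG0 hni hGp pE pG pe pg =>
    h G π hπ hG hni pE pG pe pg (alpha_pos_of_isPure k hamp hG hG0 hGp pg)
  tfae_have 4 → 2 := by
    intro h F ι _ hF hF0 hni hC pF pE pf pe
    obtain ⟨Q, hQ, rfl, hQc, -⟩ := exists_hp_coker k hamp ι hF hE hd pf pe
    rw [redLE_seesaw_left, ← redLE_seesaw_right]
    refine h _ (cokernel.π ι) inferInstance hQc ?_ ?_ hC _ _ pe hQ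
    · exact fun h0' => hni (haveI := Preadditive.epi_of_isZero_cokernel ι h0'; isIso_of_mono_of_epi ι)
    · intro _
      have e : ι = 0 := by rw [← cancel_mono (cokernel.π ι), cokernel.condition, Limits.zero_comp]
      exact hF0 ((IsZero.iff_id_eq_zero F).2 (by rw [← cancel_mono ι, e, Limits.comp_zero, Limits.comp_zero]))
  tfae_have 2 → 1 := by
    intro h
    refine ⟨hE, h0, hp, fun F ι _ hF hF0 hni pF pE pf pe => ?_⟩
    obtain ⟨F', ι', j, pF', hm', hj, hF', pf', hC, hα, hle⟩ := exists_saturation k hamp hE hp ι hF pf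
    have hpos := alpha_pos_of_isPure k hamp hF hF0 (isPure_of_mono hp ι) pf
    by_cases hi : IsIso ι'
    · rwa [← hp_unique k (hp_iso k (asIso ι') pf') pe]
    · have hE' := alpha_pos_of_isPure k hamp hE h0 hp pe
      exact redLE_trans (hα ▸ hpos) hpos.le hE'.le hle
        (h F' ι' hm' hF' (not_isZero_of_alpha_pos k hamp pf' (hα ▸ hpos)) hi hC pF' pE pf' pe)
  tfae_finish

theorem stable_tfae (hE : Coh.IsCoh E) (h0 : ¬ IsZero E) (hp : ShStab.IsPure X E d) :
    [ShStab.IsStable k X L E d,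
      ∀ (F : X.Modules) (ι : F ⟶ E), Mono ι → Coh.IsCoh F → ¬ IsZero F → ¬ IsIso ι →
        ShStab.IsPure X (cokernel ι) d →
        ∀ (pF pE : ℚ[X]), ShStab.IsHilbPoly k X L F pF → ShStab.IsHilbPoly k X L E pE → RedLT d pF pE,
      ∀ (G : X.Modules) (π : E ⟶ G), Epi π → Coh.IsCoh G → ¬ IsIso π →
        ∀ (pE pG : ℚ[X]), ShStab.IsHilbPoly k X L E pE → ShStab.IsHilbPoly k X L G pG → 0 < alpha d pG →
          RedLT d pE pG,
      ∀ (G : X.Modules) (π : E ⟶ G), Epi π → Coh.IsCoh G → ¬ IsZero G → ¬ IsIso π →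
        ShStab.IsPure X G d →
        ∀ (pE pG : ℚ[X]), ShStab.IsHilbPoly k X L E pE → ShStab.IsHilbPoly k X L G pG → RedLT d pE pG].TFAE := by
  haveI := EulerIneqLib.isNoetherian_proper (X := X) k
  have hd := dimLE_of_isPure hE hp
  tfae_have 1 → 3 := fun h G π _ hG hni pE pG pe pg hpos =>
    st_quot k hamp h π hG (not_isZero_of_alpha_pos k hamp pg hpos) hni pe pg
  tfae_have 3 → 4 := fun h G π hπ hG hG0 hni hGp pE pG pe pg =>
    h G π hπ hG hni pE pG pe pg (alpha_pos_of_isPure k hamp hG hG0 hGp pg)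
  tfae_have 4 → 2 := by
    intro h F ι _ hF hF0 hni hC pF pE pf pe
    obtain ⟨Q, hQ, rfl, hQc, -⟩ := exists_hp_coker k hamp ι hF hE hd pf pe
    rw [redLT_seesaw_left, ← redLT_seesaw_right]
    refine h _ (cokernel.π ι) inferInstance hQc ?_ ?_ hC _ _ pe hQ
    · exact fun h0' => hni (haveI := Preadditive.epi_of_isZero_cokernel ι h0'; isIso_of_mono_of_epi ι)
    · intro _
      have e : ι = 0 := by rw [← cancel_mono (cokernel.π ι), cokernel.condition, Limits.zero_comp]
      exact hF0 ((IsZero.iff_id_eq_zero F).2 (by rw [← cancel_mono ι, e, Limits.comp_zero, Limits.comp_zero]))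
  tfae_have 2 → 1 := by
    intro h
    refine ⟨hE, h0, hp, fun F ι _ hF hF0 hni pF pE pf pe => ?_⟩
    have hpos := alpha_pos_of_isPure k hamp hF hF0 (isPure_of_mono hp ι) pf
    rcases alpha_lt_or_redLT k hamp hE hd ι hF hni pf pe hpos with hl | hl
    swap
    · exact hl
    obtain ⟨F', ι', j, pF', hm', hj, hF', pf', hC, hα, hle⟩ := exists_saturation k hamp hE hp ι hF pf
    exact redLT_of_le_of_lt (hα ▸ hpos) hpos (alpha_pos_of_isPure k hamp hE h0 hp pe).le hle
      (h F' ι' hm' hF' (not_isZero_of_alpha_pos k hamp pf' (hα ▸ hpos))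
        (not_iso_of_alpha_lt k hamp pf' pe (hα ▸ hl)) hC pF' pE pf' pe)
  tfae_finish

end Groth.Agent.ShStabLib
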