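import Groth.Agent.ShStabLib.Core
/-!
Morphisms between semistable and stable modules.
-/

set_option autoImplicit false
set_option backward.isDefEq.respectTransparency false
set_option linter.style.haveILetI false

universe u

open CategoryTheory CategoryTheory.Limits AlgebraicGeometry Polynomial TopologicalSpace
open Groth.Agent.DevLib Groth.Agent.QCohLib Groth.Agent.HilbLib StabCat

noncomputable section

namespace Groth.Agent.ShStabLib

variable (k : Type u) [Field k] {X : Scheme.{u}} [X.Over (Spec (CommRingCat.of k))]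
  [IsProper (X ↘ Spec (CommRingCat.of k))] {L : X.Modules} {d : ℕ} {E F G : X.Modules} {pE pF pG : ℚ[X]}

theorem not_isZero_image {A B : X.Modules} {φ : A ⟶ B} (hφ : φ ≠ 0) : ¬ IsZero (Abelian.image φ) := fun h =>
  hφ (by rw [← Abelian.image.fac φ, h.eq_of_src (Abelian.image.ι φ) 0, Limits.comp_zero])

omit [X.Over (Spec (CommRingCat.of k))] [IsProper (X ↘ Spec (CommRingCat.of k))] in
theorem isIso_of_isZero_kernel {A B : X.Modules} (π : A ⟶ B) [Epi π] (h : IsZero (kernel π)) : IsIso π :=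
  haveI : Mono π := Preadditive.mono_of_isZero_kernel π h
  isIso_of_mono_of_epi π

variable (hamp : CohB1.IsAmple L)
include hamp

theorem exists_hp_ker (π : E ⟶ G) [Epi π] (hE : Coh.IsCoh E) (hG : Coh.IsCoh G) (hd : DimLE d E)
    (pe : HP k L E pE) (pg : HP k L G pG) :
    ∃ pK : ℚ[X], HP k L (kernel π) pK ∧ pE = pK + pG ∧ Coh.IsCoh (kernel π) ∧ DimLE d (kernel π) := by
  haveI := EulerIneqLib.isNoetherian_proper (X := X) k
  have hc := (isCoh_kernel_cokernel π hE hG).1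
  have hd' : DimLE d (kernel π) := dimLE_of_mono hd (kernel.ι π)
  obtain ⟨Q, -, hQ⟩ := exists_hp k hamp hc hd'
  exact ⟨Q, hQ, hp_add k hamp (S := ShortComplex.mk (kernel.ι π) π (kernel.condition π))
    (ShortComplex.ShortExact.mk' (ShortComplex.exact_of_f_is_kernel _ (kernelIsKernel π)) inferInstance ‹Epi π›)
    hc hE hG hQ pe pg, hc, hd'⟩

theorem ss_le (hE : ShStab.IsSemistable k X L E d) (ι : F ⟶ E) [Mono ι] (hF : Coh.IsCoh F) (h0 : ¬ IsZero F)
    (pf : HP k L F pF) (pe : HP k L E pE) : RedLE d pF pE := by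
  by_cases h : IsIso ι
  · rw [hp_unique k (hp_iso k (asIso ι) pf) pe]; exact redLE_of_eq redEq_refl
  · exact hE.2.2.2 F ι inferInstance hF h0 h pF pE pf pe

theorem st_lt (hE : ShStab.IsStable k X L E d) (ι : F ⟶ E) [Mono ι] (hF : Coh.IsCoh F) (h0 : ¬ IsZero F)
    (hni : ¬ IsIso ι) (pf : HP k L F pF) (pe : HP k L E pE) : RedLT d pF pE :=
  hE.2.2.2 F ι inferInstance hF h0 hni pF pE pf pe

theorem isSemistable_of_isStable (hE : ShStab.IsStable k X L E d) : ShStab.IsSemistable k X L E d :=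
  ⟨hE.1, hE.2.1, hE.2.2.1, fun F ι hm hF h0 hni pF pE pf pe => redLE_of_lt (hE.2.2.2 F ι hm hF h0 hni pF pE pf pe)⟩

theorem ss_quot (hE : ShStab.IsSemistable k X L E d) (π : E ⟶ G) [Epi π] (hG : Coh.IsCoh G)
    (pe : HP k L E pE) (pg : HP k L G pG) : RedLE d pE pG := by
  obtain ⟨pK, hK, rfl, hKc, -⟩ := exists_hp_ker k hamp π hE.1 hG (dimLE_of_isPure hE.1 hE.2.2.1) pe pg
  rw [redLE_seesaw_right, ← redLE_seesaw_left]
  by_cases h0 : IsZero (kernel π)
  · haveI := isIso_of_isZero_kernel π h0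
    rw [hp_unique k hK (Q := 0) fun m => by rw [eval_zero]; exact chi_isZero k hamp.1 h0 m]
    exact redLE_of_eq (by simp [RedEq, alpha_zero])
  · exact ss_le k hamp hE (kernel.ι π) hKc h0 hK pe

theorem st_quot (hE : ShStab.IsStable k X L E d) (π : E ⟶ G) [Epi π] (hG : Coh.IsCoh G) (hG0 : ¬ IsZero G)
    (hni : ¬ IsIso π) (pe : HP k L E pE) (pg : HP k L G pG) : RedLT d pE pG := by
  obtain ⟨pK, hK, rfl, hKc, -⟩ := exists_hp_ker k hamp π hE.1 hG (dimLE_of_isPure hE.1 hE.2.2.1) pe pg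
  rw [redLT_seesaw_right, ← redLT_seesaw_left]
  refine st_lt k hamp hE (kernel.ι π) hKc (fun h0 => hni (isIso_of_isZero_kernel π h0)) (fun h => hG0 ?_) hK pe
  have e : π = 0 := by rw [← cancel_epi (kernel.ι π), kernel.condition, Limits.comp_zero]
  exact (IsZero.iff_id_eq_zero G).2 (by rw [← cancel_epi π, Category.comp_id, Limits.comp_zero, e])

/-- Data of the image. -/
theorem image_data (hF : Coh.IsCoh F) (hG : Coh.IsCoh G) (hGp : ShStab.IsPure X G d) {φ : F ⟶ G} (hφ : φ ≠ 0) :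
    ∃ pI : ℚ[X], HP k L (Abelian.image φ) pI ∧ 0 < alpha d pI ∧ Coh.IsCoh (Abelian.image φ) ∧
      ¬ IsZero (Abelian.image φ) := by
  haveI := EulerIneqLib.isNoetherian_proper (X := X) k
  have hI := isCoh_image' φ hF hG
  have hp := isPure_of_mono hGp (Abelian.image.ι φ)
  obtain ⟨pI, -, hpI⟩ := exists_hp k hamp hI (dimLE_of_isPure hI hp)
  exact ⟨pI, hpI, alpha_pos_of_isPure k hamp hI (not_isZero_image hφ) hp hpI, hI, not_isZero_image hφ⟩

theorem hom_eq_zero (hF : ShStab.IsSemistable k X L F d) (hG : ShStab.IsSemistable k X L G d)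
    (pf : HP k L F pF) (pg : HP k L G pG) (hlt : RedLT d pG pF) (φ : F ⟶ G) : φ = 0 := by
  by_contra hφ
  obtain ⟨pI, hpI, hα, hI, hI0⟩ := image_data k hamp hF.1 hG.1 hG.2.2.1 hφ
  refine redLT_asymm hlt (redLE_trans hα (alpha_pos_of_isPure k hamp hF.1 hF.2.1 hF.2.2.1 pf).le
    (alpha_pos_of_isPure k hamp hG.1 hG.2.1 hG.2.2.1 pg).le
    (ss_quot k hamp hF (Abelian.factorThruImage φ) hI pf hpI) (ss_le k hamp hG (Abelian.image.ι φ) hI hI0 hpI pg))

theorem mono_of_stable (hF : ShStab.IsStable k X L F d) (hG : ShStab.IsSemistable k X L G d)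
    (pf : HP k L F pF) (pg : HP k L G pG) (heq : RedEq d pF pG) (φ : F ⟶ G) (hφ : φ ≠ 0) : Mono φ := by
  obtain ⟨pI, hpI, hα, hI, hI0⟩ := image_data k hamp hF.1 hG.1 hG.2.2.1 hφ
  by_cases h : IsIso (Abelian.factorThruImage φ)
  · rw [← Abelian.image.fac φ]; infer_instance
  · exact absurd heq (not_redEq_of_lt (redLT_of_lt_of_le hα (alpha_pos_of_isPure k hamp hF.1 hF.2.1 hF.2.2.1 pf).le
      (alpha_pos_of_isPure k hamp hG.1 hG.2.1 hG.2.2.1 pg)
      (st_quot k hamp hF (Abelian.factorThruImage φ) hI hI0 h pf hpI) (ss_le k hamp hG (Abelian.image.ι φ) hI hI0 hpI pg)))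

theorem epi_of_stable (hF : ShStab.IsSemistable k X L F d) (hG : ShStab.IsStable k X L G d)
    (pf : HP k L F pF) (pg : HP k L G pG) (heq : RedEq d pF pG) (φ : F ⟶ G) (hφ : φ ≠ 0) : Epi φ := by
  obtain ⟨pI, hpI, hα, hI, hI0⟩ := image_data k hamp hF.1 hG.1 hG.2.2.1 hφ
  by_cases h : IsIso (Abelian.image.ι φ)
  · rw [← Abelian.image.fac φ]; infer_instance
  · exact absurd heq (not_redEq_of_lt (redLT_of_le_of_lt hα (alpha_pos_of_isPure k hamp hF.1 hF.2.1 hF.2.2.1 pf)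
      (alpha_pos_of_isPure k hamp hG.1 hG.2.1 hG.2.2.1 pg).le
      (ss_quot k hamp hF (Abelian.factorThruImage φ) hI pf hpI) (st_lt k hamp hG (Abelian.image.ι φ) hI hI0 h hpI pg)))

theorem isIso_of_same_hp (hF : ShStab.IsSemistable k X L F d) (hG : ShStab.IsSemistable k X L G d)
    (hst : ShStab.IsStable k X L F d ∨ ShStab.IsStable k X L G d) {P : ℚ[X]}
    (pf : HP k L F P) (pg : HP k L G P) (φ : F ⟶ G) (hφ : φ ≠ 0) : IsIso φ := by
  rcases hst with h | h
  · haveI := mono_of_stable k hamp h hG pf pg redEq_refl φ hφ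
    exact isIso_of_hp_eq k hamp φ hF.1 hG.1 (dimLE_of_isPure hG.1 hG.2.2.1) pf pg
  · haveI := epi_of_stable k hamp hF h pf pg redEq_refl φ hφ
    obtain ⟨pK, hK, e, hKc, hKd⟩ := exists_hp_ker k hamp φ hF.1 hG.1 (dimLE_of_isPure hF.1 hF.2.2.1) pf pg
    exact isIso_of_isZero_kernel φ (isZero_of_hp_zero k hamp hKc hKd (right_eq_add.1 e ▸ hK))

theorem isIso_endo (hE : ShStab.IsStable k X L E d) (φ : E ⟶ E) (hφ : φ ≠ 0) : IsIso φ := by
  obtain ⟨P, -, hP⟩ := exists_hp k hamp hE.1 (dimLE_of_isPure hE.1 hE.2.2.1)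
  exact isIso_of_same_hp k hamp (isSemistable_of_isStable k hamp hE) (isSemistable_of_isStable k hamp hE)
    (Or.inl hE) hP hP φ hφ

end Groth.Agent.ShStabLib
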