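import Groth.Agent.ShStabLib.Saturation
/-!
The lattice of coherent submodules of a pure module and their Hilbert polynomials.
-/

set_option autoImplicit false
set_option backward.isDefEq.respectTransparency false
set_option linter.style.haveILetI false

universe u

open CategoryTheory CategoryTheory.Limits AlgebraicGeometry Polynomial TopologicalSpace
open Groth.Agent.DevLib Groth.Agent.QCohLib Groth.Agent.HilbLib StabCat

noncomputable section

namespace Groth.Agent.ShStabLib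

theorem redEq_of_le_of_le {d : ℕ} {P Q : ℚ[X]} (h₁ : RedLE d P Q) (h₂ : RedLE d Q P) : RedEq d P Q := by
  rcases redLT_or_eq h₁ with h | h
  · exact absurd h₂ (redLT_asymm h)
  · exact h

/-- The weighted average step. -/
theorem redLT_of_seesaw {d : ℕ} {A B K H : ℚ[X]} (e : A + B = K + H) (hA : 0 < alpha d A) (hB : 0 < alpha d B)
    (hH : alpha d A ≤ alpha d H) (h₁ : RedLT d H A) (h₂ : RedLE d A B) : RedLT d B K := by
  have key : 0 < (alpha d A • (cr d H B - cr d A B)).leadingCoeff := by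
    have e1 : alpha d A • (cr d H B - cr d A B) =
        alpha d B • cr d H A + (alpha d H - alpha d A) • cr d A B := by
      rw [smul_sub, cr_trans, sub_smul]; abel
    rw [e1]
    refine lc_add_pos ?_ ?_ <;> rw [lc_smul]
    · exact mul_pos hB (redLT_iff.1 h₁)
    · exact mul_nonneg (sub_nonneg.2 hH) (redLE_iff.1 h₂)
  rw [lc_smul_pos_iff hA] at key
  have e2 : cr d A B + cr d B B = cr d K B + cr d H B := by rw [← cr_add_left, ← cr_add_left, e]
  rw [cr_self, add_zero] at e2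
  rw [redLT_iff, cr_swap (P := K), show - cr d K B = cr d H B - cr d A B by rw [e2]; abel]
  exact key

variable {X : Scheme.{u}}

/-- The submodule as a module. -/
abbrev CSub.obj {E : X.Modules} (A : CSub E) : X.Modules := (A.1 : X.Modules)

theorem not_isZero_of_le {E : X.Modules} {A B : CSub E} (h : A ≤ B) (h0 : ¬ IsZero A.obj) : ¬ IsZero B.obj := fun hz =>
  h0 ((IsZero.iff_id_eq_zero _).2 (by
    rw [← cancel_mono (Subobject.ofLE A.1 B.1 h)]; exact hz.eq_of_tgt _ _))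

variable (k : Type u) [Field k] [X.Over (Spec (CommRingCat.of k))]
  [IsProper (X ↘ Spec (CommRingCat.of k))] {L : X.Modules} {d : ℕ} {E : X.Modules}

/-- The Hilbert polynomial of a coherent submodule of a pure module. -/
def pol (hamp : CohB1.IsAmple L) (hE : Coh.IsCoh E) (hp : ShStab.IsPure X E d) (A : CSub E) : ℚ[X] :=
  (exists_hp k hamp A.2 (dimLE_of_mono (dimLE_of_isPure hE hp) A.1.arrow)).choose

variable (hamp : CohB1.IsAmple L) (hE : Coh.IsCoh E) (hp : ShStab.IsPure X E d)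

include hamp hE hp in
theorem pol_spec (A : CSub E) : HP k L A.obj (pol k hamp hE hp A) :=
  (exists_hp k hamp A.2 (dimLE_of_mono (dimLE_of_isPure hE hp) A.1.arrow)).choose_spec.2

local notation "P" => pol k hamp hE hp
local notation "α" A => alpha d (pol k hamp hE hp A)

include hamp hE hp

theorem alpha_pol_pos {A : CSub E} (h0 : ¬ IsZero A.obj) : 0 < α A :=
  alpha_pos_of_isPure k hamp A.2 h0 (isPure_of_mono hp A.1.arrow) (pol_spec k hamp hE hp A)

theorem alpha_pol_nonneg (A : CSub E) : 0 ≤ α A :=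
  alpha_nonneg k hamp A.2 (dimLE_of_mono (dimLE_of_isPure hE hp) A.1.arrow) (pol_spec k hamp hE hp A)

theorem pol_mk {F : X.Modules} (ι : F ⟶ E) [Mono ι] (hF : Coh.IsCoh F) {pF : ℚ[X]} (pf : HP k L F pF) :
    P (CSub.mk ι hF) = pF :=
  hp_unique k (pol_spec k hamp hE hp _) (hp_iso k (Subobject.underlyingIso ι).symm pf)

theorem pol_eq_zero {A : CSub E} (h0 : IsZero A.obj) : P A = 0 :=
  hp_unique k (pol_spec k hamp hE hp A) fun m => by rw [eval_zero]; exact chi_isZero k hamp.1 h0 m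

theorem exists_pol_add {A B : CSub E} (h : A ≤ B) :
    ∃ Q : ℚ[X], P B = P A + Q ∧ 0 ≤ alpha d Q ∧ 0 ≤ Q.leadingCoeff ∧
      (A ≠ B → 0 < Q.leadingCoeff) := by
  haveI := EulerIneqLib.isNoetherian_proper (X := X) k
  obtain ⟨Q, hQ, e, hQc, hQd⟩ := exists_hp_coker k hamp (Subobject.ofLE A.1 B.1 h) A.2 B.2
    (dimLE_of_mono (dimLE_of_isPure hE hp) B.1.arrow) (pol_spec k hamp hE hp A) (pol_spec k hamp hE hp B)
  refine ⟨Q, e, alpha_nonneg k hamp hQc hQd hQ, lc_nonneg k hamp hQc hQd hQ, fun hne => lc_pos k hamp hQc (fun h0 => hne ?_) hQd hQ⟩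
  haveI := Preadditive.epi_of_isZero_cokernel _ h0
  haveI := isIso_of_mono_of_epi (Subobject.ofLE A.1 B.1 h)
  exact Subtype.ext (le_antisymm h (Subobject.le_of_comm (inv (Subobject.ofLE A.1 B.1 h)) (by simp)))

theorem alpha_mono {A B : CSub E} (h : A ≤ B) : (α A) ≤ α B := by
  obtain ⟨Q, e, hQ, -⟩ := exists_pol_add k hamp hE hp h
  rw [e, alpha_add]; linarith

theorem redLE_of_le_of_alpha_eq {A B : CSub E} (h : A ≤ B) (he : (α A) = α B) : RedLE d (P A) (P B) := by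
  obtain ⟨Q, e, hQ, hlc, -⟩ := exists_pol_add k hamp hE hp h
  rw [e, alpha_add, left_eq_add] at he
  rw [e]
  exact redLE_add_of_alpha_eq_zero he (alpha_pol_nonneg k hamp hE hp A) hlc

theorem exists_inf_sup (A B : CSub E) :
    ∃ K H : CSub E, A ≤ H ∧ B ≤ H ∧ K ≤ A ∧ K ≤ B ∧ (∀ C : CSub E, C ≤ A → C ≤ B → C ≤ K) ∧
      (∀ C : CSub E, A ≤ C → B ≤ C → H ≤ C) ∧ P A + P B = P K + P H := by
  haveI := EulerIneqLib.isNoetherian_proper (X := X) k
  let φ : A.obj ⊞ B.obj ⟶ E := biprod.desc A.1.arrow B.1.arrow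
  have hS := (ShortComplex.Splitting.ofHasBinaryBiproduct A.obj B.obj).shortExact
  have hsum : Coh.IsCoh (A.obj ⊞ B.obj : X.Modules) := isCoh_X₂ hS A.2 B.2
  have hdE := dimLE_of_isPure hE hp
  have hK := (isCoh_kernel_cokernel φ hsum hE).1
  have hH := isCoh_image' φ hsum hE
  haveI : Mono (kernel.ι φ ≫ biprod.fst ≫ A.1.arrow) := by
    refine Preadditive.mono_of_cancel_zero _ fun {T} x hx => ?_
    have h1 : x ≫ kernel.ι φ ≫ biprod.fst = 0 := by
      rw [← cancel_mono A.1.arrow, Limits.zero_comp]; simpa only [Category.assoc] using hx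
    have h2 : x ≫ kernel.ι φ ≫ biprod.snd = 0 := by
      rw [← cancel_mono B.1.arrow, Limits.zero_comp]
      obtain ⟨y, hy⟩ : ∃ y, y = x ≫ kernel.ι φ := ⟨_, rfl⟩
      have h3 : y ≫ φ = 0 := by rw [hy, Category.assoc, kernel.condition, Limits.comp_zero]
      have e : φ = biprod.fst ≫ A.1.arrow + biprod.snd ≫ B.1.arrow := biprod.desc_eq
      have h4 : y ≫ biprod.fst ≫ A.1.arrow = 0 := by rw [hy]; simpa only [Category.assoc] using hx
      rw [e, Preadditive.comp_add, h4, zero_add, hy] at h3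
      simpa only [Category.assoc] using h3
    rw [← cancel_mono (kernel.ι φ), Limits.zero_comp]
    apply biprod.hom_ext <;> simp only [Category.assoc, Limits.zero_comp] <;> assumption
  let K := CSub.mk (kernel.ι φ ≫ biprod.fst ≫ A.1.arrow) hK
  let H := CSub.mk (Abelian.image.ι φ) hH
  have eK : kernel.ι φ ≫ biprod.fst ≫ A.1.arrow = - (kernel.ι φ ≫ biprod.snd ≫ B.1.arrow) := by
    refine eq_neg_of_add_eq_zero_left ?_
    rw [← Preadditive.comp_add, ← biprod.desc_eq, kernel.condition]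
  refine ⟨K, H, Subobject.le_mk_of_comm (biprod.inl ≫ Abelian.factorThruImage φ) (by simp [φ]),
    Subobject.le_mk_of_comm (biprod.inr ≫ Abelian.factorThruImage φ) (by simp [φ]),
    Subobject.mk_le_of_comm (kernel.ι φ ≫ biprod.fst) (by simp),
    Subobject.mk_le_of_comm (-(kernel.ι φ ≫ biprod.snd)) (by rw [eK]; simp),
    fun C hA hB => Subobject.le_mk_of_comm
      (kernel.lift φ (biprod.lift (Subobject.ofLE _ _ hA) (-Subobject.ofLE _ _ hB))
        (by simp [φ])) (by simp), fun C hA hB => ?_, ?_⟩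
  · have hz : Abelian.image.ι φ ≫ cokernel.π C.1.arrow = 0 := by
      rw [← cancel_epi (Abelian.factorThruImage φ), Limits.comp_zero, ← Category.assoc, Abelian.image.fac]
      apply biprod.hom_ext'
      · simp only [φ, biprod.inl_desc_assoc, Limits.comp_zero]
        rw [← Subobject.ofLE_arrow hA, Category.assoc, cokernel.condition, Limits.comp_zero]
      · simp only [φ, biprod.inr_desc_assoc, Limits.comp_zero]
        rw [← Subobject.ofLE_arrow hB, Category.assoc, cokernel.condition, Limits.comp_zero]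
    exact Subobject.mk_le_of_comm (Abelian.monoLift C.1.arrow _ hz) (Abelian.monoLift_comp _ _ _)
  have hdsum : DimLE d (A.obj ⊞ B.obj : X.Modules) := dimLE_of_subset hdE (by
    rw [support_X₂ hS]
    exact Set.union_subset (support_subset_of_mono A.1.arrow) (support_subset_of_mono B.1.arrow))
  obtain ⟨pS, -, hpS⟩ := exists_hp k hamp hsum hdsum
  obtain ⟨pK, -, hpK⟩ := exists_hp k hamp hK (dimLE_of_mono hdsum (kernel.ι φ))
  obtain ⟨pH, -, hpH⟩ := exists_hp k hamp hH (dimLE_of_mono hdE (Abelian.image.ι φ))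
  have e1 : pS = P A + P B := hp_add k hamp hS A.2 hsum B.2 (pol_spec k hamp hE hp A) hpS (pol_spec k hamp hE hp B)
  obtain ⟨pK', hpK', e2, -⟩ := exists_hp_ker k hamp (Abelian.factorThruImage φ) hsum hH hdsum hpS hpH
  have hker : Nonempty (kernel φ ≅ kernel (Abelian.factorThruImage φ)) :=
    ⟨kernelIsoOfEq (Abelian.image.fac φ).symm ≪≫ kernelCompMono _ _⟩
  obtain ⟨e⟩ := hker
  rw [show P K = pK from pol_mk k hamp hE hp _ hK hpK, show P H = pH from pol_mk k hamp hE hp _ hH hpH, ← e1, e2,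
    hp_unique k hpK' (hp_iso k e hpK)]

omit hamp hE hp in
theorem bot_isZero (E : X.Modules) : IsZero ((⊥ : Subobject E) : X.Modules) :=
  (Limits.isZero_zero X.Modules).of_iso Subobject.botCoeIsoZero

omit hamp hE hp in
/-- The zero submodule. -/
theorem exists_bot (k : Type u) [Field k] [X.Over (Spec (CommRingCat.of k))]
    [IsProper (X ↘ Spec (CommRingCat.of k))] (E : X.Modules) : ∃ A : CSub E, A.1 = ⊥ :=
  haveI := EulerIneqLib.isNoetherian_proper (X := X) k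
  ⟨⟨⊥, isCoh_of_isZero (bot_isZero E)⟩, rfl⟩

omit hamp hE hp in
theorem eq_bot_of_isZero {A : Subobject E} (h : IsZero (A : X.Modules)) : A = ⊥ :=
  le_bot_iff.1 (Subobject.le_of_comm 0 (h.eq_of_src _ _))

omit hamp hE hp in
theorem ne_of_not_isZero_coker {A B : CSub E} {h : A ≤ B} (hz : ¬ IsZero (cokernel (Subobject.ofLE A.1 B.1 h))) :
    A ≠ B := by
  rintro rfl
  refine hz (IsZero.of_iso (Limits.isZero_zero _) ?_)
  haveI : IsIso (Subobject.ofLE A.1 A.1 h) := by rw [Subobject.ofLE_refl]; infer_instance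
  exact cokernel.ofEpi (Subobject.ofLE A.1 A.1 h)

/-- The factor of two nested submodules. -/
theorem fct_data {A B : CSub E} (h : A ≤ B) :
    Coh.IsCoh (cokernel (Subobject.ofLE A.1 B.1 h)) ∧ DimLE d (cokernel (Subobject.ofLE A.1 B.1 h)) ∧
      HP k L (cokernel (Subobject.ofLE A.1 B.1 h)) (P B - P A) := by
  haveI := EulerIneqLib.isNoetherian_proper (X := X) k
  obtain ⟨Q, hQ, e, hQc, hQd⟩ := exists_hp_coker k hamp (Subobject.ofLE A.1 B.1 h) A.2 B.2
    (dimLE_of_mono (dimLE_of_isPure hE hp) B.1.arrow) (pol_spec k hamp hE hp A) (pol_spec k hamp hE hp B)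
  exact ⟨hQc, hQd, by rwa [show P B - P A = Q by rw [e]; abel]⟩

/-- Submodules of a factor come from intermediate submodules. -/
theorem exists_preimage {A B : CSub E} (h : A ≤ B) {G : X.Modules} (g : G ⟶ cokernel (Subobject.ofLE A.1 B.1 h))
    [Mono g] (hG : Coh.IsCoh G) {pG : ℚ[X]} (pg : HP k L G pG) :
    ∃ C : CSub E, A ≤ C ∧ C ≤ B ∧ P C - P A = pG := by
  haveI := EulerIneqLib.isNoetherian_proper (X := X) k
  obtain ⟨hQc, hQd, hQ⟩ := fct_data k hamp hE hp h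
  obtain ⟨pD, hpD, eD, hD, -⟩ := exists_hp_coker k hamp g hG hQc hQd pg hQ
  let π : B.obj ⟶ cokernel g := cokernel.π (Subobject.ofLE A.1 B.1 h) ≫ cokernel.π g
  have hdB : DimLE d B.obj := dimLE_of_mono (dimLE_of_isPure hE hp) B.1.arrow
  obtain ⟨pK, hpK, eK, hK, -⟩ := exists_hp_ker k hamp π B.2 hD hdB (pol_spec k hamp hE hp B) hpD
  let C := CSub.mk (kernel.ι π ≫ B.1.arrow) hK
  refine ⟨C, Subobject.le_mk_of_comm (kernel.lift π (Subobject.ofLE A.1 B.1 h)
      (by simp only [π, cokernel.condition_assoc, Limits.zero_comp])) (by simp),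
    Subobject.mk_le_of_comm (kernel.ι π) rfl, ?_⟩
  rw [show P C = pK from pol_mk k hamp hE hp _ hK hpK]
  linear_combination eD - eK

theorem rel_ne_zero {A B : CSub E} (h : A ≤ B) (hne : A ≠ B) : P B - P A ≠ 0 := fun e => by
  obtain ⟨Q, eQ, -, -, hQ⟩ := exists_pol_add k hamp hE hp h
  have h0 := hQ hne
  rw [show Q = 0 from by rw [← e, eQ]; abel, leadingCoeff_zero] at h0
  exact lt_irrefl _ h0

/-- No submodule of the same multiplicity strictly above. -/
def Sat (A : CSub E) : Prop := ∀ C : CSub E, A ≤ C → A ≠ C → 0 < alpha d (P C - P A)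

theorem sat_of_bot {A : CSub E} (hA : A.1 = ⊥) : Sat k hamp hE hp A := fun C _ hne => by
  have h0 : IsZero A.obj := by
    show IsZero (A.1 : X.Modules)
    rw [hA]; exact bot_isZero E
  rw [pol_eq_zero k hamp hE hp h0, sub_zero]
  exact alpha_pol_pos k hamp hE hp fun hz => hne (Subtype.ext (hA.trans (eq_bot_of_isZero hz).symm))

theorem alpha_rel_nonneg {A B : CSub E} (h : A ≤ B) : 0 ≤ alpha d (P B - P A) := by
  obtain ⟨Q, eQ, hQ, -⟩ := exists_pol_add k hamp hE hp h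
  rwa [show P B - P A = Q by rw [eQ]; abel]

theorem isPure_fct {A B : CSub E} (h : A ≤ B) (hA : Sat k hamp hE hp A) :
    ShStab.IsPure X (cokernel (Subobject.ofLE A.1 B.1 h)) d := by
  intro G g _ hG hG0
  obtain ⟨-, hQd, -⟩ := fct_data k hamp hE hp h
  refine dim_eq_of_not_lt (dimLE_of_mono hQd g) fun hlt => ?_
  obtain ⟨pG, -, pg⟩ := exists_hp k hamp hG (dimLE_of_mono hQd g)
  obtain ⟨C, hAC, -, e⟩ := exists_preimage k hamp hE hp h g hG pg
  have hne : A ≠ C := fun hAC' => hG0 (isZero_of_hp_zero k hamp hG (dimLE_of_mono hQd g) (by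
    rwa [show pG = 0 by rw [← e, hAC', sub_self]] at pg))
  have := hA C hAC hne
  rw [e, alpha_eq_zero k hamp hG hlt pg] at this
  exact lt_irrefl _ this

/-- The largest reduced polynomial above a submodule of saturated type. -/
theorem exists_maxOver {A : CSub E} (hA : Sat k hamp hE hp A) (hne : ∃ C, A ≤ C ∧ A ≠ C) :
    ∃ F : CSub E, A ≤ F ∧ A ≠ F ∧ ∀ G : CSub E, A ≤ G → A ≠ G →
      RedLE d (P G - P A) (P F - P A) ∧ (RedEq d (P G - P A) (P F - P A) → G ≤ F) := by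
  classical
  haveI := EulerIneqLib.isNoetherian_proper (X := X) k
  let R : CSub E → ℚ[X] := fun C => P C - P A
  have hmono : ∀ {B C : CSub E}, B ≤ C → alpha d (R B) ≤ alpha d (R C) := fun {B C} h => by
    have h1 := alpha_rel_nonneg k hamp hE hp h
    have e : R C = R B + (P C - P B) := by simp only [R]; abel
    rw [e, alpha_add]; linarith
  have hsame : ∀ {B C : CSub E}, A ≤ B → B ≤ C → alpha d (R B) = alpha d (R C) → RedLE d (R B) (R C) :=
    fun {B C} hAB h he => by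
      obtain ⟨Q, eQ, hQ, hlc, -⟩ := exists_pol_add k hamp hE hp h
      have e : R C = R B + Q := by simp only [R]; rw [eQ]; abel
      rw [e, alpha_add, left_eq_add] at he
      rw [e]
      exact redLE_add_of_alpha_eq_zero he (alpha_rel_nonneg k hamp hE hp hAB) hlc
  have above : ∀ {B C : CSub E}, A ≤ B → A ≠ B → B ≤ C → A ≠ C := fun {B C} hAB hn hBC e =>
    hn (le_antisymm hAB (e ▸ hBC))
  let Max : CSub E → Prop := fun B => A ≤ B ∧ A ≠ B ∧ ∀ C : CSub E, B ≤ C → RedLE d (R B) (R C) → C = B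
  have dom : ∀ C₀ : CSub E, A ≤ C₀ → A ≠ C₀ → ∃ B, C₀ ≤ B ∧ RedLE d (R C₀) (R B) ∧ Max B := by
    intro C₀ hA₀ hn₀
    obtain ⟨B, hAB, ⟨-, hB⟩, hmax⟩ := exists_maximal hE (fun C => C₀ ≤ C ∧ RedLE d (R C₀) (R C)) (A := C₀)
      ⟨le_rfl, redLE_of_eq redEq_refl⟩
    refine ⟨B, hAB, hB, hA₀.trans hAB, above hA₀ hn₀ hAB, fun C hBC hC => hmax C ⟨hAB.trans hBC, ?_⟩ hBC⟩
    exact redLE_trans (hA B (hA₀.trans hAB) (above hA₀ hn₀ hAB)) (alpha_rel_nonneg k hamp hE hp hA₀)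
      (alpha_rel_nonneg k hamp hE hp (hA₀.trans (hAB.trans hBC))) hB hC
  have hrk : ∀ C : CSub E, A ≤ C → ∃ r : ℕ, alpha d (R C) = r := fun C h => by
    obtain ⟨hQc, hQd, hQ⟩ := fct_data k hamp hE hp h
    exact exists_nat_alpha k hamp hQc hQd hQ
  have hne' : ∃ n : ℕ, ∃ B, Max B ∧ alpha d (R B) = n := by
    obtain ⟨C, hC, hCn⟩ := hne
    obtain ⟨B, -, -, hB⟩ := dom C hC hCn
    obtain ⟨r, hr⟩ := hrk B hB.1
    exact ⟨r, B, hB, hr⟩
  obtain ⟨F, hF, hFr⟩ := Nat.find_spec hne'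
  have hFmin : ∀ B, Max B → alpha d (R F) ≤ alpha d (R B) := fun B hB => by
    obtain ⟨r, hr⟩ := hrk B hB.1
    rw [hr, hFr]
    exact_mod_cast Nat.find_min' hne' ⟨B, hB, hr⟩
  have hFpos : 0 < alpha d (R F) := hA F hF.1 hF.2.1
  have key : ∀ G : CSub E, A ≤ G → A ≠ G → ¬ G ≤ F → RedLE d (R F) (R G) →
      ∃ K : CSub E, A ≤ K ∧ A ≠ K ∧ K ≤ F ∧ K ≤ G ∧ (∀ C : CSub E, C ≤ F → C ≤ G → C ≤ K) ∧ RedLT d (R G) (R K) := by
    intro G hAG hG hnle hle
    obtain ⟨K, H, hFH, hGH, hKF, hKG, huniv, -, e⟩ := exists_inf_sup k hamp hE hp F G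
    have hlt : RedLT d (R H) (R F) := not_redLE.1 fun h => hnle (hF.2.2 H hFH h ▸ hGH)
    have h1 := redLT_of_seesaw (K := R K) (show R F + R G = R K + R H by simp only [R]; linear_combination e)
      hFpos (hA G hAG hG) (hmono hFH) hlt hle
    refine ⟨K, huniv A hF.1 hAG, fun hz => ?_, hKF, hKG, huniv, h1⟩
    rw [show R K = 0 by simp only [R, ← hz, sub_self], redLT_iff, cr, alpha_zero, zero_smul, smul_zero, sub_zero,
      leadingCoeff_zero] at h1
    exact lt_irrefl _ h1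
  have claim : ∀ G : CSub E, A ≤ G → A ≠ G → G ≤ F → RedLE d (R G) (R F) := by
    intro G hAG hG hGF
    by_contra hc
    obtain ⟨G₁, hG₁, ⟨hG₁F, hG₁p⟩, hG₁max⟩ := exists_maximal hE (fun C => C ≤ F ∧ RedLE d (R G) (R C)) (A := G)
      ⟨hGF, redLE_of_eq redEq_refl⟩
    have hAG₁ := hAG.trans hG₁
    have hG₁0 := above hAG hG hG₁
    have hG₁pos : 0 < alpha d (R G₁) := hA G₁ hAG₁ hG₁0
    have hFG₁ : RedLT d (R F) (R G₁) :=
      redLT_of_lt_of_le (hA G hAG hG) hFpos.le hG₁pos (not_redLE.1 hc) hG₁p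
    obtain ⟨G', hG₁G', hle', hG'max⟩ := dom G₁ hAG₁ hG₁0
    have hG'pos : 0 < alpha d (R G') := hA G' hG'max.1 hG'max.2.1
    have hFG' : RedLT d (R F) (R G') := redLT_of_lt_of_le hG₁pos hFpos.le hG'pos hFG₁ hle'
    have hnle : ¬ G' ≤ F := fun h => redLT_asymm hFG'
      (hsame hG'max.1 h (le_antisymm (hmono h) (hFmin G' hG'max)))
    obtain ⟨K, hAK, hK0, hKF, -, huniv, hlt⟩ := key G' hG'max.1 hG'max.2.1 hnle (redLE_of_lt hFG')
    have hKpos : 0 < alpha d (R K) := hA K hAK hK0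
    have h2 : RedLT d (R G₁) (R K) := redLT_of_le_of_lt hG'pos hG₁pos hKpos.le hle' hlt
    have hKeq : K = G₁ := hG₁max K ⟨hKF, redLE_trans hG₁pos (alpha_rel_nonneg k hamp hE hp hAG) hKpos.le hG₁p
      (redLE_of_lt h2)⟩ (huniv G₁ hG₁F hG₁G')
    rw [hKeq] at h2
    exact redLT_irrefl h2
  have main : ∀ G : CSub E, A ≤ G → A ≠ G → RedLE d (R F) (R G) → G ≤ F := by
    intro G hAG hG hle
    by_contra hn
    obtain ⟨K, hAK, hK0, hKF, -, -, hlt⟩ := key G hAG hG hn hle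
    exact redLT_asymm (redLT_of_le_of_lt (hA G hAG hG) hFpos (alpha_rel_nonneg k hamp hE hp hAK) hle hlt)
      (claim K hAK hK0 hKF)
  refine ⟨F, hF.1, hF.2.1, fun G hAG hG => ⟨?_, fun he => main G hAG hG (redLE_of_eq (redEq_symm he))⟩⟩
  rcases (@redLE_total d (R G) (R F)) with h | h
  · exact h
  · exact claim G hAG hG (main G hAG hG h)

theorem exists_isMaxDestab (h0 : ¬ IsZero E) :
    ∃ (F : X.Modules) (ι : F ⟶ E), ShStab.IsMaxDestab k X L E d F ι := by
  obtain ⟨O, hO⟩ := exists_bot k E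
  have hO0 : IsZero O.obj := by
    show IsZero (O.1 : X.Modules)
    rw [hO]; exact bot_isZero E
  obtain ⟨F, hOF, hF0, hF⟩ := exists_maxOver k hamp hE hp (sat_of_bot k hamp hE hp hO)
    ⟨CSub.mk (𝟙 E) hE, show O.1 ≤ _ from hO ▸ bot_le, fun e => h0 ((hO0).of_iso
      ((Subobject.underlyingIso (𝟙 E)).symm ≪≫ eqToIso (congrArg CSub.obj e.symm)))⟩
  simp only [pol_eq_zero k hamp hE hp hO0, sub_zero] at hF
  refine ⟨F.obj, F.1.arrow, inferInstance, F.2, fun hz => hF0 (Subtype.ext (hO.trans (eq_bot_of_isZero hz).symm)),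
    fun G κ _ hG hG0 pF pG pf pg => ?_⟩
  obtain ⟨h1, h2⟩ := hF (CSub.mk κ hG) (show O.1 ≤ _ from hO ▸ bot_le)
    fun e => hG0 ((hO0).of_iso ((Subobject.underlyingIso κ).symm ≪≫ eqToIso (congrArg CSub.obj e.symm)))
  rw [pol_mk k hamp hE hp κ hG pg, hp_unique k (pol_spec k hamp hE hp F) pf] at h1 h2
  refine ⟨h1, fun he => ⟨(Subobject.underlyingIso κ).inv ≫ Subobject.ofLE _ _ (h2 he), ?_⟩⟩
  rw [Category.assoc, Subobject.ofLE_arrow]
  exact Subobject.underlyingIso_arrow κ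

theorem isMaxDestab_unique {F₁ F₂ : X.Modules} {ι₁ : F₁ ⟶ E} {ι₂ : F₂ ⟶ E}
    (h₁ : ShStab.IsMaxDestab k X L E d F₁ ι₁) (h₂ : ShStab.IsMaxDestab k X L E d F₂ ι₂) :
    ∃ e : F₁ ≅ F₂, e.hom ≫ ι₂ = ι₁ := by
  obtain ⟨m₁, c₁, z₁, h₁⟩ := h₁
  obtain ⟨m₂, c₂, z₂, h₂⟩ := h₂
  have hd := dimLE_of_isPure hE hp
  obtain ⟨p₁, -, q₁⟩ := exists_hp k hamp c₁ (dimLE_of_mono hd ι₁)
  obtain ⟨p₂, -, q₂⟩ := exists_hp k hamp c₂ (dimLE_of_mono hd ι₂)
  obtain ⟨a₁, b₁⟩ := h₁ F₂ ι₂ m₂ c₂ z₂ p₁ p₂ q₁ q₂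
  obtain ⟨a₂, b₂⟩ := h₂ F₁ ι₁ m₁ c₁ z₁ p₂ p₁ q₂ q₁
  have he := redEq_of_le_of_le a₁ a₂
  obtain ⟨φ, hφ⟩ := b₁ he
  obtain ⟨ψ, hψ⟩ := b₂ (redEq_symm he)
  exact ⟨⟨ψ, φ, by rw [← cancel_mono ι₁, Category.assoc, hφ, hψ, Category.id_comp],
    by rw [← cancel_mono ι₂, Category.assoc, hψ, hφ, Category.id_comp]⟩, hψ⟩

end Groth.Agent.ShStabLib
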