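import Groth.Prelude.Def_StabCat
import Mathlib
/-!
The eventual order of polynomials and reduced comparisons.
-/

set_option autoImplicit false

open Polynomial StabCat

namespace Groth.Agent.ShStabLib

variable {d : ℕ} {A B C P Q R : ℚ[X]}

/-- `P` is eventually nonnegative. -/
def Nn (P : ℚ[X]) : Prop := 0 ≤ P.leadingCoeff

theorem eventually_pos (h : 0 < P.leadingCoeff) : ∃ N : ℕ, ∀ m : ℕ, N ≤ m → 0 < P.eval (m : ℚ) := by
  by_cases hd : 0 < P.degree
  · obtain ⟨N, hN⟩ := Filter.eventually_atTop.1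
      (((P.tendsto_atTop_of_leadingCoeff_nonneg hd h.le).comp tendsto_natCast_atTop_atTop).eventually_gt_atTop 0)
    exact ⟨N, hN⟩
  · refine ⟨0, fun m _ => ?_⟩
    rw [eq_C_of_degree_le_zero (not_lt.1 hd), eval_C]
    rw [eq_C_of_degree_le_zero (not_lt.1 hd), leadingCoeff_C] at h
    exact h

theorem polyLE_iff : PolyLE P Q ↔ 0 ≤ (Q - P).leadingCoeff := by
  constructor
  · rintro ⟨N, hN⟩
    by_contra hneg
    obtain ⟨M, hM⟩ := eventually_pos (P := P - Q) (by
      rw [← neg_sub, leadingCoeff_neg]; linarith [not_le.1 hneg])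
    have h1 := hM (max N M) (le_max_right _ _)
    have h2 := hN (max N M) (le_max_left _ _)
    rw [eval_sub] at h1
    linarith
  · intro h
    rcases h.eq_or_lt with h | h
    · exact ⟨0, fun m _ => by rw [sub_eq_zero.1 (leadingCoeff_eq_zero.1 h.symm)]⟩
    · obtain ⟨N, hN⟩ := eventually_pos h
      exact ⟨N, fun m hm => by have := hN m hm; rw [eval_sub] at this; linarith⟩

theorem polyLT_iff : PolyLT P Q ↔ 0 < (Q - P).leadingCoeff := by
  constructor
  · rintro ⟨N, hN⟩
    have hle : PolyLE P Q := ⟨N, fun m hm => (hN m hm).le⟩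
    refine lt_of_le_of_ne (polyLE_iff.1 hle) fun h => ?_
    rw [sub_eq_zero.1 (leadingCoeff_eq_zero.1 h.symm)] at hN
    exact lt_irrefl _ (hN N le_rfl)
  · intro h
    obtain ⟨N, hN⟩ := eventually_pos h
    exact ⟨N, fun m hm => by have := hN m hm; rw [eval_sub] at this; linarith⟩

/-- `αQ P - αP Q`, whose sign compares the reduced polynomials. -/
noncomputable def cr (d : ℕ) (P Q : ℚ[X]) : ℚ[X] := alpha d P • Q - alpha d Q • P

theorem redLE_iff : RedLE d P Q ↔ 0 ≤ (cr d P Q).leadingCoeff := polyLE_iff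
theorem redLT_iff : RedLT d P Q ↔ 0 < (cr d P Q).leadingCoeff := polyLT_iff
theorem redEq_iff : RedEq d P Q ↔ cr d P Q = 0 := by rw [RedEq, cr, sub_eq_zero, eq_comm]

theorem cr_swap : cr d Q P = - cr d P Q := by rw [cr, cr, neg_sub]

theorem cr_self : cr d P P = 0 := sub_self _

theorem redLE_of_lt (h : RedLT d P Q) : RedLE d P Q := redLE_iff.2 (redLT_iff.1 h).le

theorem redLE_of_eq (h : RedEq d P Q) : RedLE d P Q := by rw [redLE_iff, redEq_iff.1 h, leadingCoeff_zero]

theorem redLT_or_eq (h : RedLE d P Q) : RedLT d P Q ∨ RedEq d P Q := by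
  rcases (redLE_iff.1 h).eq_or_lt with h | h
  · exact Or.inr (redEq_iff.2 (leadingCoeff_eq_zero.1 h.symm))
  · exact Or.inl (redLT_iff.2 h)

theorem not_redLE : ¬ RedLE d P Q ↔ RedLT d Q P := by
  rw [redLE_iff, redLT_iff, cr_swap (P := P), leadingCoeff_neg]
  constructor <;> intro h
  · linarith [not_le.1 h]
  · linarith

theorem not_redLT : ¬ RedLT d P Q ↔ RedLE d Q P := by rw [← not_redLE, not_not]

theorem redLE_total : RedLE d P Q ∨ RedLE d Q P := by
  rcases em (RedLE d P Q) with h | h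
  · exact Or.inl h
  · exact Or.inr (redLE_of_lt (not_redLE.1 h))

theorem redEq_symm (h : RedEq d P Q) : RedEq d Q P := h.symm

theorem redEq_refl : RedEq d P P := rfl

theorem redLT_irrefl : ¬ RedLT d P P := by rw [redLT_iff, cr_self, leadingCoeff_zero]; exact lt_irrefl _

theorem redLT_asymm (h : RedLT d P Q) : ¬ RedLE d Q P := not_redLE.2 h

theorem not_redEq_of_lt (h : RedLT d P Q) : ¬ RedEq d P Q := fun e => by
  rw [redLT_iff, redEq_iff.1 e, leadingCoeff_zero] at h; exact lt_irrefl _ h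

theorem lc_add_nonneg (hA : 0 ≤ A.leadingCoeff) (hB : 0 ≤ B.leadingCoeff) : 0 ≤ (A + B).leadingCoeff := by
  have h1 : PolyLE 0 A := polyLE_iff.2 (by rwa [sub_zero])
  have h2 : PolyLE 0 B := polyLE_iff.2 (by rwa [sub_zero])
  obtain ⟨N, hN⟩ := h1
  obtain ⟨M, hM⟩ := h2
  have : PolyLE 0 (A + B) := ⟨max N M, fun m hm => by
    have a := hN m (le_of_max_le_left hm)
    have b := hM m (le_of_max_le_right hm)
    simp only [eval_zero, eval_add] at a b ⊢
    linarith⟩
  simpa using polyLE_iff.1 this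

theorem lc_add_pos (hA : 0 < A.leadingCoeff) (hB : 0 ≤ B.leadingCoeff) : 0 < (A + B).leadingCoeff := by
  refine lt_of_le_of_ne (lc_add_nonneg hA.le hB) fun h => ?_
  have e : B = -A := eq_neg_of_add_eq_zero_right (leadingCoeff_eq_zero.1 h.symm)
  rw [e, leadingCoeff_neg] at hB
  linarith

theorem lc_smul (a : ℚ) : (a • A).leadingCoeff = a * A.leadingCoeff := by
  rw [smul_eq_C_mul, leadingCoeff_mul, leadingCoeff_C]

theorem lc_smul_nonneg_iff {a : ℚ} (ha : 0 < a) : 0 ≤ (a • A).leadingCoeff ↔ 0 ≤ A.leadingCoeff := by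
  rw [lc_smul]; exact mul_nonneg_iff_of_pos_left ha

theorem lc_smul_pos_iff {a : ℚ} (ha : 0 < a) : 0 < (a • A).leadingCoeff ↔ 0 < A.leadingCoeff := by
  rw [lc_smul]; exact mul_pos_iff_of_pos_left ha

theorem cr_trans : alpha d Q • cr d P R = alpha d R • cr d P Q + alpha d P • cr d Q R := by
  simp only [cr, smul_sub, smul_smul, mul_comm (alpha d Q), mul_comm (alpha d R) (alpha d P)]
  abel

theorem redLE_trans (hQ : 0 < alpha d Q) (hP : 0 ≤ alpha d P) (hR : 0 ≤ alpha d R)
    (h₁ : RedLE d P Q) (h₂ : RedLE d Q R) : RedLE d P R := by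
  rw [redLE_iff, ← lc_smul_nonneg_iff hQ, cr_trans]
  refine lc_add_nonneg ?_ ?_ <;> rw [lc_smul]
  · exact mul_nonneg hR (redLE_iff.1 h₁)
  · exact mul_nonneg hP (redLE_iff.1 h₂)

theorem redLT_of_lt_of_le (hQ : 0 < alpha d Q) (hP : 0 ≤ alpha d P) (hR : 0 < alpha d R)
    (h₁ : RedLT d P Q) (h₂ : RedLE d Q R) : RedLT d P R := by
  rw [redLT_iff, ← lc_smul_pos_iff hQ, cr_trans]
  refine lc_add_pos ?_ ?_ <;> rw [lc_smul]
  · exact mul_pos hR (redLT_iff.1 h₁)
  · exact mul_nonneg hP (redLE_iff.1 h₂)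

theorem redLT_of_le_of_lt (hQ : 0 < alpha d Q) (hP : 0 < alpha d P) (hR : 0 ≤ alpha d R)
    (h₁ : RedLE d P Q) (h₂ : RedLT d Q R) : RedLT d P R := by
  rw [redLT_iff, ← lc_smul_pos_iff hQ, cr_trans, add_comm]
  refine lc_add_pos ?_ ?_ <;> rw [lc_smul]
  · exact mul_pos hP (redLT_iff.1 h₂)
  · exact mul_nonneg hR (redLE_iff.1 h₁)

theorem redEq_trans (hQ : 0 < alpha d Q) (h₁ : RedEq d P Q) (h₂ : RedEq d Q R) : RedEq d P R := by
  rw [redEq_iff]
  have h := cr_trans (d := d) (P := P) (Q := Q) (R := R)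
  rw [redEq_iff.1 h₁, redEq_iff.1 h₂, smul_zero, smul_zero, add_zero] at h
  exact (smul_eq_zero.1 h).resolve_left hQ.ne'

theorem alpha_add : alpha d (A + B) = alpha d A + alpha d B := by simp [alpha, mul_add]

theorem alpha_zero : alpha d (0 : ℚ[X]) = 0 := by simp [alpha]

/-- The see-saw property. -/
theorem cr_seesaw : cr d A (A + B) = cr d A B ∧ cr d (A + B) B = cr d A B := by
  simp only [cr, alpha_add, smul_add, add_smul]
  constructor <;> abel

theorem redLE_seesaw_left : RedLE d A (A + B) ↔ RedLE d A B := by rw [redLE_iff, redLE_iff, cr_seesaw.1]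
theorem redLT_seesaw_left : RedLT d A (A + B) ↔ RedLT d A B := by rw [redLT_iff, redLT_iff, cr_seesaw.1]
theorem redEq_seesaw_left : RedEq d A (A + B) ↔ RedEq d A B := by rw [redEq_iff, redEq_iff, cr_seesaw.1]
theorem redLE_seesaw_right : RedLE d (A + B) B ↔ RedLE d A B := by rw [redLE_iff, redLE_iff, cr_seesaw.2]
theorem redLT_seesaw_right : RedLT d (A + B) B ↔ RedLT d A B := by rw [redLT_iff, redLT_iff, cr_seesaw.2]
theorem redEq_seesaw_right : RedEq d (A + B) B ↔ RedEq d A B := by rw [redEq_iff, redEq_iff, cr_seesaw.2]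

/-- Adding something of zero multiplicity increases the reduced polynomial. -/
theorem redLE_add_of_alpha_eq_zero (hB : alpha d B = 0) (hA : 0 ≤ alpha d A) (hn : 0 ≤ B.leadingCoeff) :
    RedLE d A (A + B) := by
  rw [redLE_seesaw_left, redLE_iff, cr, hB, zero_smul, sub_zero, lc_smul]
  exact mul_nonneg hA hn

theorem redLT_add_of_alpha_eq_zero (hB : alpha d B = 0) (hA : 0 < alpha d A) (hn : 0 < B.leadingCoeff) :
    RedLT d A (A + B) := by
  rw [redLT_seesaw_left, redLT_iff, cr, hB, zero_smul, sub_zero, lc_smul]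
  exact mul_pos hA hn

/-- `P₁ + P₂ = P₃ + P₄` and comparisons with a fixed polynomial. -/
theorem cr_add_left : cr d (A + B) C = cr d A C + cr d B C := by
  simp only [cr, alpha_add, smul_add, add_smul]; abel

theorem alpha_isInt : ∀ (d : ℕ) (P : ℚ[X]), P.degree < ((d + 1 : ℕ) : WithBot ℕ) →
    (∀ m : ℕ, ∃ z : ℤ, P.eval (m : ℚ) = z) → ∃ z : ℤ, alpha d P = z := by
  intro d
  induction d with
  | zero =>
    intro P hP h
    obtain ⟨z, hz⟩ := h 0
    refine ⟨z, ?_⟩
    rw [← hz, Nat.cast_zero, ← coeff_zero_eq_eval_zero]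
    simp [alpha]
  | succ d ih =>
    intro P hP h
    let R := P.comp (Polynomial.X + C 1) - P
    have hcoeff : R.coeff d = ((d : ℚ) + 1) * P.coeff (d + 1) := by
      have hdeg : (hasseDeriv d P).natDegree < 2 := by
        have h1 : P.natDegree < d + 2 := by
          rcases eq_or_ne P 0 with rfl | hP0
          · simp
          · rw [degree_eq_natDegree hP0] at hP
            exact_mod_cast hP
        have := natDegree_hasseDeriv_le P d
        omega
      simp only [R]
      rw [coeff_sub, ← taylor_apply, taylor_coeff, eval_eq_sum_range' hdeg, Finset.sum_range_succ,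
        Finset.sum_range_one, hasseDeriv_coeff, hasseDeriv_coeff, zero_add, Nat.choose_self, add_comm 1 d,
        Nat.choose_succ_self_right]
      push_cast
      ring
    have hR : R.degree < ((d + 1 : ℕ) : WithBot ℕ) := by
      rw [degree_lt_iff_coeff_zero]
      intro m hm
      have h1 : P.natDegree ≤ d + 1 := natDegree_le_iff_coeff_eq_zero.2 fun j hj =>
        (degree_lt_iff_coeff_zero P (d + 1 + 1)).1 hP j (by omega)
      simp only [R]
      rw [coeff_sub, ← taylor_apply]
      rcases hm.eq_or_lt with rfl | hm'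
      · rcases h1.eq_or_lt with he | hlt
        · have := natDegree_taylor P (1 : ℚ)
          rw [← he, sub_eq_zero]
          rw [taylor_coeff, hasseDeriv_natDegree_eq_C, eval_C, leadingCoeff]
        · rw [coeff_eq_zero_of_natDegree_lt hlt, coeff_eq_zero_of_natDegree_lt (by rwa [natDegree_taylor]), sub_zero]
      · rw [coeff_eq_zero_of_natDegree_lt (p := taylor (1 : ℚ) P) (by rw [natDegree_taylor]; omega),
          coeff_eq_zero_of_natDegree_lt (p := P) (by omega), sub_zero]
    obtain ⟨z, hz⟩ := ih R hR fun m => by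
      obtain ⟨a, ha⟩ := h m
      obtain ⟨b, hb⟩ := h (m + 1)
      refine ⟨b - a, ?_⟩
      simp only [R, eval_sub, eval_comp, eval_add, eval_X, eval_C]
      push_cast at hb ⊢
      rw [hb, ha]
    refine ⟨z, ?_⟩
    rw [← hz, alpha, alpha, hcoeff, Nat.factorial_succ]
    push_cast
    ring

end Groth.Agent.ShStabLib
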