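import Groth.Agent.HilbLib.Positive
import Groth.Agent.ShStabLib.Order
/-!
Hilbert polynomials of coherent modules of bounded dimension.
-/

set_option autoImplicit false
set_option backward.isDefEq.respectTransparency false
set_option linter.style.haveILetI false

universe u

open CategoryTheory CategoryTheory.Limits AlgebraicGeometry Polynomial TopologicalSpace
open Groth.Agent.DevLib Groth.Agent.QCohLib Groth.Agent.HilbLib StabCat

noncomputable section

namespace Groth.Agent.ShStabLib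

variable {X : Scheme.{u}}

/-- The support has dimension at most `d`. -/
def DimLE (d : ℕ) (M : X.Modules) : Prop :=
  topologicalKrullDim (CohB1.support M) < ((d + 1 : ℕ) : WithBot ℕ∞)

theorem dimLE_of_subset {d : ℕ} {M N : X.Modules} (h : DimLE d N) (hs : CohB1.support M ⊆ CohB1.support N) :
    DimLE d M :=
  lt_of_le_of_lt (Topology.IsEmbedding.inclusion hs).isInducing.topologicalKrullDim_le h

theorem dimLE_of_mono {d : ℕ} {M N : X.Modules} (h : DimLE d N) (f : M ⟶ N) [Mono f] : DimLE d M :=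
  dimLE_of_subset h (support_subset_of_mono f)

theorem support_subset_of_epi {M N : X.Modules} (f : M ⟶ N) [Epi f] :
    CohB1.support N ⊆ CohB1.support M := fun x hx hs =>
  hx (Function.Surjective.subsingleton ((PullbackMod.epi_iff_stalk f).1 inferInstance x))

theorem dimLE_of_epi {d : ℕ} {M N : X.Modules} (h : DimLE d M) (f : M ⟶ N) [Epi f] : DimLE d N :=
  dimLE_of_subset h (support_subset_of_epi f)

theorem dimLE_of_isPure {d : ℕ} {E : X.Modules} (hE : Coh.IsCoh E) (hp : ShStab.IsPure X E d) : DimLE d E := by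
  unfold DimLE
  by_cases h0 : IsZero E
  · rw [support_eq_empty_of_isZero h0]
    haveI : IsEmpty (IrreducibleCloseds (∅ : Set X)) := ⟨fun c => by
      obtain ⟨z, -⟩ := c.isIrreducible.nonempty
      exact z.2⟩
    rw [topologicalKrullDim, Order.krullDim_eq_bot]
    exact WithBot.bot_lt_coe _
  · rw [hp E (𝟙 E) inferInstance hE h0]
    exact_mod_cast Nat.lt_succ_self d

/-- The image of a map of coherent modules is coherent. -/
theorem isCoh_image' [IsLocallyNoetherian X] {M N : X.Modules} (φ : M ⟶ N) (hM : Coh.IsCoh M) (hN : Coh.IsCoh N) :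
    Coh.IsCoh (Abelian.image φ) :=
  (isCoh_kernel_cokernel (cokernel.π φ) hN (isCoh_kernel_cokernel φ hM hN).2).1

theorem isPure_of_mono {d : ℕ} {E F : X.Modules} (hp : ShStab.IsPure X E d) (f : F ⟶ E) [Mono f] :
    ShStab.IsPure X F d := fun G g _ hG h0 => hp G (g ≫ f) inferInstance hG h0

variable (k : Type u) [Field k] [X.Over (Spec (CommRingCat.of k))]
  [IsProper (X ↘ Spec (CommRingCat.of k))] {L : X.Modules} {d : ℕ}

/-- `P` is a Hilbert polynomial of `M`. -/
abbrev HP (L M : X.Modules) (P : ℚ[X]) : Prop := ShStab.IsHilbPoly k X L M P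

theorem hp_unique {M : X.Modules} {P Q : ℚ[X]} (hP : HP k L M P) (hQ : HP k L M Q) : P = Q :=
  poly_eq_of_nat fun m => (hP m).symm.trans (hQ m)

theorem hp_iso {M N : X.Modules} (e : M ≅ N) {P : ℚ[X]} (hP : HP k L M P) : HP k L N P := fun m =>
  (chi_iso k e.symm m).trans (hP m)

variable (hamp : CohB1.IsAmple L)
include hamp

theorem exists_hp {M : X.Modules} (hM : Coh.IsCoh M) (hd : DimLE d M) :
    ∃ P : ℚ[X], P.degree < ((d + 1 : ℕ) : WithBot ℕ) ∧ HP k L M P :=
  exists_poly k hamp.1 (d + 1) M hM hd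

theorem degree_lt {M : X.Modules} (hM : Coh.IsCoh M) (hd : DimLE d M) {P : ℚ[X]} (hP : HP k L M P) :
    P.degree < ((d + 1 : ℕ) : WithBot ℕ) := by
  obtain ⟨Q, hQ, hQ'⟩ := exists_hp k hamp hM hd
  rwa [hp_unique k hP hQ']

theorem hp_add {S : ShortComplex X.Modules} (hS : S.ShortExact) (h₁ : Coh.IsCoh S.X₁) (h₂ : Coh.IsCoh S.X₂)
    (h₃ : Coh.IsCoh S.X₃) {P₁ P₂ P₃ : ℚ[X]} (p₁ : HP k L S.X₁ P₁) (p₂ : HP k L S.X₂ P₂) (p₃ : HP k L S.X₃ P₃) :
    P₂ = P₁ + P₃ := poly_eq_of_nat fun m => by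
  rw [eval_add, ← p₁ m, ← p₂ m, ← p₃ m]
  exact chi_shortExact k hamp.1 hS h₁ h₂ h₃ m

/-- Sub and quotient. -/
theorem exists_hp_coker {M N : X.Modules} (f : M ⟶ N) [Mono f] (hM : Coh.IsCoh M) (hN : Coh.IsCoh N)
    (hd : DimLE d N) {PM PN : ℚ[X]} (pM : HP k L M PM) (pN : HP k L N PN) :
    ∃ Q : ℚ[X], HP k L (cokernel f) Q ∧ PN = PM + Q ∧ Coh.IsCoh (cokernel f) ∧ DimLE d (cokernel f) := by
  haveI := EulerIneqLib.isNoetherian_proper (X := X) k
  have hc := (isCoh_kernel_cokernel f hM hN).2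
  have hd' : DimLE d (cokernel f) := dimLE_of_subset hd (support_coker_subset f)
  obtain ⟨Q, -, hQ⟩ := exists_hp k hamp hc hd'
  exact ⟨Q, hQ, hp_add k hamp (cokerSeq_shortExact f) hM hN hc pM pN hQ, hc, hd'⟩

theorem alpha_nonneg {M : X.Modules} (hM : Coh.IsCoh M) (hd : DimLE d M) {P : ℚ[X]} (hP : HP k L M P) :
    0 ≤ alpha d P :=
  mul_nonneg (by positivity) (coeff_nonneg k hamp hM (degree_lt k hamp hM hd hP) hP)

theorem alpha_eq_zero {M : X.Modules} (hM : Coh.IsCoh M)
    (hd : topologicalKrullDim (CohB1.support M) < (d : WithBot ℕ∞)) {P : ℚ[X]} (hP : HP k L M P) :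
    alpha d P = 0 := by
  obtain ⟨Q, hQ, hQ'⟩ := exists_poly k hamp.1 d M hM hd
  rw [hp_unique k hP hQ', alpha, (degree_lt_iff_coeff_zero Q d).1 hQ d le_rfl, mul_zero]

theorem alpha_pos {M : X.Modules} (hM : Coh.IsCoh M) (hd : DimLE d M)
    (hdim : ¬ topologicalKrullDim (CohB1.support M) < (d : WithBot ℕ∞)) {P : ℚ[X]} (hP : HP k L M P) :
    0 < alpha d P :=
  mul_pos (by positivity) (coeff_pos k hamp d M hM hd P (degree_lt k hamp hM hd hP) hP
    ((not_dim_lt_iff (isClosed_support hM) d).1 hdim))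

theorem lc_pos {M : X.Modules} (hM : Coh.IsCoh M) (h0 : ¬ IsZero M) (hd : DimLE d M) {P : ℚ[X]} (hP : HP k L M P) :
    0 < P.leadingCoeff := by
  classical
  have hcl := isClosed_support hM
  have hne : HasChain 0 (CohB1.support M) := by
    obtain ⟨x, hx⟩ := Set.nonempty_iff_ne_empty.2 fun h => h0 (isZero_of_support_empty h)
    exact ⟨fun _ => x, fun _ => hx, fun i j h => absurd h (by simp [Fin.fin_one_eq_zero i, Fin.fin_one_eq_zero j])⟩
  set j := Nat.findGreatest (fun j => HasChain j (CohB1.support M)) d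
  have hj : HasChain j (CohB1.support M) := Nat.findGreatest_spec (P := fun j => HasChain j (CohB1.support M)) (Nat.zero_le d) hne
  have hjd : DimLE j M := by
    by_contra h
    have h1 : HasChain (j + 1) (CohB1.support M) := (not_dim_lt_iff hcl (j + 1)).1 h
    rcases Nat.lt_or_ge j d with hlt | hge
    · exact Nat.findGreatest_is_greatest (P := fun j => HasChain j (CohB1.support M)) (Nat.lt_succ_self j) hlt h1
    · refine (not_dim_lt_iff hcl (d + 1)).2 ?_ hd
      have : j = d := le_antisymm (Nat.findGreatest_le d) hge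
      rwa [← this]
  have hdeg := degree_lt k hamp hM hjd hP
  have hpos := coeff_pos k hamp j M hM hjd P hdeg hP hj
  have hnat : P.natDegree = j := le_antisymm (natDegree_le_iff_coeff_eq_zero.2 fun m hm =>
    (degree_lt_iff_coeff_zero P (j + 1)).1 hdeg m hm) (le_natDegree_of_ne_zero hpos.ne')
  rwa [leadingCoeff, hnat]

theorem lc_nonneg {M : X.Modules} (hM : Coh.IsCoh M) (hd : DimLE d M) {P : ℚ[X]} (hP : HP k L M P) :
    0 ≤ P.leadingCoeff := by
  by_cases h0 : IsZero M
  · rw [hp_unique k hP (Q := 0) fun m => by rw [eval_zero]; exact chi_isZero k hamp.1 h0 m, leadingCoeff_zero]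
  · exact (lc_pos k hamp hM h0 hd hP).le

theorem isZero_of_hp_zero {M : X.Modules} (hM : Coh.IsCoh M) (hd : DimLE d M) (hP : HP k L M 0) : IsZero M := by
  by_contra h0
  exact lt_irrefl _ (leadingCoeff_zero (R := ℚ) ▸ lc_pos k hamp hM h0 hd hP)

/-- A monomorphism preserving the Hilbert polynomial is an isomorphism. -/
theorem isIso_of_hp_eq {M N : X.Modules} (f : M ⟶ N) [Mono f] (hM : Coh.IsCoh M) (hN : Coh.IsCoh N)
    (hd : DimLE d N) {P : ℚ[X]} (pM : HP k L M P) (pN : HP k L N P) : IsIso f := by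
  obtain ⟨Q, hQ, e, hc, hd'⟩ := exists_hp_coker k hamp f hM hN hd pM pN
  have hQ0 : Q = 0 := left_eq_add.1 e
  haveI : Epi f := Preadditive.epi_of_isZero_cokernel _ (isZero_of_hp_zero k hamp hc hd' (hQ0 ▸ hQ))
  exact isIso_of_mono_of_epi f

theorem alpha_le_of_mono {M N : X.Modules} (f : M ⟶ N) [Mono f] (hM : Coh.IsCoh M) (hN : Coh.IsCoh N)
    (hd : DimLE d N) {PM PN : ℚ[X]} (pM : HP k L M PM) (pN : HP k L N PN) : alpha d PM ≤ alpha d PN := by
  obtain ⟨Q, hQ, rfl, hc, hd'⟩ := exists_hp_coker k hamp f hM hN hd pM pN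
  rw [alpha_add]
  linarith [alpha_nonneg k hamp hc hd' hQ]

theorem alpha_pos_of_isPure {E : X.Modules} (hE : Coh.IsCoh E) (h0 : ¬ IsZero E) (hp : ShStab.IsPure X E d)
    {P : ℚ[X]} (hP : HP k L E P) : 0 < alpha d P :=
  alpha_pos k hamp hE (dimLE_of_isPure hE hp) (by rw [hp E (𝟙 E) inferInstance hE h0]; exact lt_irrefl _) hP

/-- The multiplicity as a natural number. -/
theorem exists_nat_alpha {M : X.Modules} (hM : Coh.IsCoh M) (hd : DimLE d M) {P : ℚ[X]} (hP : HP k L M P) :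
    ∃ r : ℕ, alpha d P = r := by
  obtain ⟨z, hz⟩ := alpha_isInt d P (degree_lt k hamp hM hd hP) fun m => ⟨_, (hP m).symm⟩
  have : 0 ≤ z := by exact_mod_cast hz ▸ alpha_nonneg k hamp hM hd hP
  exact ⟨z.toNat, by rw [hz]; exact_mod_cast (Int.toNat_of_nonneg this).symm⟩

end Groth.Agent.ShStabLib
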