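import Groth.Agent.ShStabLib.THN
/-!
Slope Harder–Narasimhan filtrations and the minimal destabilising quotient.
-/

set_option autoImplicit false
set_option backward.isDefEq.respectTransparency false
set_option linter.style.haveILetI false

universe u

open CategoryTheory CategoryTheory.Limits AlgebraicGeometry Polynomial TopologicalSpace
open Groth.Agent.DevLib Groth.Agent.QCohLib Groth.Agent.HilbLib StabCat

noncomputable section

namespace Groth.Agent.ShStabLib

theorem lc_cr_topPart_one {d : ℕ} (hd : 1 ≤ d) {P Q : ℚ[X]} (hP : 0 < alpha d P) (hQ : 0 < alpha d Q) :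
    ∃ c : ℚ, 0 < c ∧ (cr d (topPart 1 d P) (topPart 1 d Q)).leadingCoeff = c * (hatSlope d Q - hatSlope d P) := by
  have e : cr d (topPart 1 d P) (topPart 1 d Q) = monomial (d - 1) ((cr d P Q).coeff (d - 1)) := by
    rw [cr_topPart]
    ext i
    rw [coeff_topPart, coeff_monomial]
    by_cases h : i = d - 1
    · subst h; rw [if_pos (by simp), if_pos rfl]
    · rw [if_neg (Ne.symm h)]
      by_cases hi : i = d
      · subst hi
        rw [if_pos (by simp), cr, coeff_sub, Polynomial.coeff_smul, Polynomial.coeff_smul]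
        simp only [alpha, smul_eq_mul]; ring
      · rw [if_neg (by simp only [Finset.mem_Icc]; omega)]
  have hf : (0 : ℚ) < ((d - 1).factorial : ℚ) := by exact_mod_cast Nat.factorial_pos _
  refine ⟨alpha d P * alpha d Q / (d - 1).factorial, by positivity, ?_⟩
  rw [e, leadingCoeff_monomial, cr, coeff_sub, Polynomial.coeff_smul, Polynomial.coeff_smul, hatSlope, hatSlope]
  have hP' := hP.ne'
  have hQ' := hQ.ne'
  simp only [smul_eq_mul]
  field_simp
  simp only [alpha]
  ring

theorem redLE_topPart_one_iff {d : ℕ} (hd : 1 ≤ d) {P Q : ℚ[X]} (hP : 0 < alpha d P) (hQ : 0 < alpha d Q) :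
    RedLE d (topPart 1 d P) (topPart 1 d Q) ↔ hatSlope d P ≤ hatSlope d Q := by
  obtain ⟨c, hc, e⟩ := lc_cr_topPart_one hd hP hQ
  rw [redLE_iff, e, mul_nonneg_iff_of_pos_left hc, sub_nonneg]

theorem redLT_topPart_one_iff {d : ℕ} (hd : 1 ≤ d) {P Q : ℚ[X]} (hP : 0 < alpha d P) (hQ : 0 < alpha d Q) :
    RedLT d (topPart 1 d P) (topPart 1 d Q) ↔ hatSlope d P < hatSlope d Q := by
  obtain ⟨c, hc, e⟩ := lc_cr_topPart_one hd hP hQ
  rw [redLT_iff, e, mul_pos_iff_of_pos_left hc, sub_pos]

variable (k : Type u) [Field k] {X : Scheme.{u}} [X.Over (Spec (CommRingCat.of k))]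
  [IsProper (X ↘ Spec (CommRingCat.of k))] {L : X.Modules} {d : ℕ} {E : X.Modules}

theorem ell_one_iff (hd : 1 ≤ d) :
    ShStab.IsEllSemistable k X L E d 1 ↔ (ShStab.IsPure X E d ∧ ShStab.IsMuSemistable k X L E d) := by
  constructor
  · rintro ⟨hE, h0, hp, h⟩
    refine ⟨hp, hE, h0, hp E (𝟙 E) inferInstance hE h0, fun F ι hm hF => ?_, fun F ι hm hF pF pE a b c e =>
      (redLE_topPart_one_iff hd c (c.trans e)).1 (h F ι hm hF pF pE a b c e)⟩
    by_cases hF0 : IsZero F
    · rw [support_eq_empty_of_isZero hF0]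
      haveI : IsEmpty (IrreducibleCloseds (∅ : Set X)) := ⟨fun c => by
        obtain ⟨z, -⟩ := c.isIrreducible.nonempty
        exact z.2⟩
      rw [topologicalKrullDim, Order.krullDim_eq_bot, WithBot.bot_add]
      exact WithBot.bot_ne_coe
    · rw [hp F ι hm hF hF0]
      intro h
      have : d + 1 = d := by exact_mod_cast h
      omega
  · rintro ⟨hp, hE, h0, -, -, h⟩
    exact ⟨hE, h0, hp, fun F ι hm hF pF pE a b c e =>
      (redLE_topPart_one_iff hd c (c.trans e)).2 (h F ι hm hF pF pE a b c e)⟩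

variable (hamp : CohB1.IsAmple L) (hE : Coh.IsCoh E) (hp : ShStab.IsPure X E d)
include hamp hE hp

theorem mu_hn (hd : 1 ≤ d) : ∃! s : LTSeries (Subobject E),
    s.head = ⊥ ∧ s.last = ⊤ ∧
    (∀ i : Fin s.length, ShStab.IsPure X (factor s i) d ∧ ShStab.IsMuSemistable k X L (factor s i) d) ∧
    ∀ (i j : Fin s.length), i.val + 1 = j.val → ∀ (p q : ℚ[X]), HP k L (factor s i) p → HP k L (factor s j) q →
      hatSlope d q < hatSlope d p := by
  obtain ⟨O, hO⟩ := exists_bot k E
  have pos : ∀ {G : X.Modules} {p : ℚ[X]}, ShStab.IsEllSemistable k X L G d 1 → HP k L G p → 0 < alpha d p :=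
    fun h hpp => alpha_pos_of_isPure k hamp h.1 h.2.1 h.2.2.1 hpp
  obtain ⟨s, h1, h2, h3, h4⟩ := texists_hn k 1 hamp hE hp O (sat_of_bot k hamp hE hp hO)
  refine ⟨s, ⟨h1.trans hO, h2, fun i => (ell_one_iff k hd).1 (h3 i), fun i j hij p q hp' hq =>
    (redLT_topPart_one_iff hd (pos (h3 j) hq) (pos (h3 i) hp')).1 (h4 i j hij p q hp' hq)⟩, fun t ht => ?_⟩
  obtain ⟨t1, t2, t3, t4⟩ := ht
  have t3' : AllFct (EFct k L d 1) t := fun i => (ell_one_iff k hd).2 (t3 i)
  exact thn_unique k 1 hamp hE hp t s O (t1.trans hO.symm) h1 t2 h2 t3' (fun i j hij p q hp' hq =>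
    (redLT_topPart_one_iff hd (pos (t3' j) hq) (pos (t3' i) hp')).2 (t4 i j hij p q hp' hq)) h3 h4

omit hamp hE hp in
theorem isCoh_terms (k : Type u) [Field k] [X.Over (Spec (CommRingCat.of k))]
    [IsProper (X ↘ Spec (CommRingCat.of k))] (s : LTSeries (Subobject E)) :
    Coh.IsCoh (s.head : X.Modules) → (∀ i, Coh.IsCoh (factor s i)) → ∀ i, Coh.IsCoh (s.toFun i : X.Modules) := by
  induction s using series_induction with
  | base x => exact fun h _ _ => h
  | cons x s hx ih =>
    intro h hf i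
    have h1 : Coh.IsCoh (s.head : X.Modules) :=
      ext_coh k (A := ⟨x, h⟩) hx.le (hf (⟨0, Nat.succ_pos _⟩ : Fin (s.length + 1)))
    exact Fin.cases (by exact h) (fun j => by exact ih h1 (fun q => hf q.succ) j) i

theorem min_quot_iso (ℓ : ℕ) (h0 : ¬ IsZero E) (s : LTSeries (Subobject E))
    (hh : s.head = ⊥) (hl : s.last = ⊤) (hall : AllFct (EFct k L d ℓ) s) (hdec : TDecr k L d ℓ s)
    {G : X.Modules} (q : E ⟶ G) [Epi q] (hG : Coh.IsCoh G) (hGp : ShStab.IsPure X G d)
    {pF pG : ℚ[X]} (hpF : HP k L (cokernel s.eraseLast.last.arrow) pF) (hpG : HP k L G pG)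
    (hα : alpha d pF = alpha d pG) (hred : RedEq d (topPart ℓ d pF) (topPart ℓ d pG)) :
    ∃ φ : (cokernel s.eraseLast.last.arrow) ≅ G, cokernel.π s.eraseLast.last.arrow ≫ φ.hom = q := by
  haveI := EulerIneqLib.isNoetherian_proper (X := X) k
  obtain ⟨O, hO⟩ := exists_bot k E
  have hlen : 0 < s.length := by
    rcases Nat.eq_zero_or_pos s.length with h | h
    · exfalso
      have e : (⊥ : Subobject E) = ⊤ := by rw [← hh, head_eq_last h]; exact hl
      refine h0 ((bot_isZero E).of_iso ?_)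
      exact (asIso (⊤ : Subobject E).arrow).symm ≪≫ eqToIso (congrArg (fun S : Subobject E => (S : X.Modules)) e.symm)
    · exact h
  let i : Fin s.length := ⟨s.length - 1, by omega⟩
  have hi : i.val + 1 = s.length := by show s.length - 1 + 1 = _; omega
  have hterm := isCoh_terms k s (by rw [hh, ← hO]; exact O.2) fun i => (hall i).1
  have epen : s.eraseLast.last = s.toFun i.castSucc := congrArg s.toFun (Fin.ext rfl)
  let A : CSub E := ⟨s.toFun i.castSucc, hterm _⟩
  let T : CSub E := CSub.mk (𝟙 E) hE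
  have eT : s.toFun i.succ = T.1 := by
    show s.toFun i.succ = Subobject.mk (𝟙 E)
    rw [← Subobject.top_eq_id, ← hl]
    exact congrArg s.toFun (Fin.ext hi)
  have hAT : A ≤ T := Subobject.le_mk_of_comm A.1.arrow (Category.comp_id _)
  let eF : cokernel (Subobject.ofLE A.1 T.1 hAT) ≅ cokernel s.eraseLast.last.arrow :=
    cokernel.mapIso _ _ (eqToIso (congrArg (fun S : Subobject E => (S : X.Modules)) epen.symm))
      (Subobject.underlyingIso (𝟙 E)) (by
        rw [eqToIso.hom, Subobject.arrow_congr _ _ epen.symm, ← Subobject.ofLE_arrow hAT]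
        congr 1
        show _ = (Subobject.mk (𝟙 E)).arrow
        rw [← Subobject.underlyingIso_hom_comp_eq_mk (𝟙 E), Category.comp_id])
  let eI : cokernel (Subobject.ofLE A.1 T.1 hAT) ≅ factor s i :=
    cokernel.mapIso _ _ (Iso.refl _) (eqToIso (congrArg (fun S : Subobject E => (S : X.Modules)) eT.symm)) (by
      rw [Iso.refl_hom, Category.id_comp]
      apply (cancel_mono (Subobject.arrow (s.toFun i.succ))).1
      rw [Category.assoc, eqToIso.hom, Subobject.arrow_congr _ _ eT.symm, Subobject.ofLE_arrow, Subobject.ofLE_arrow])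
  have hm : HP k L (factor s i) pF := hp_iso k eI (hp_iso k eF.symm hpF)
  obtain ⟨pE, -, hpE⟩ := exists_hp k hamp hE (dimLE_of_isPure hE hp)
  obtain ⟨pK, hpK, eK, hKc, -⟩ := exists_hp_ker k hamp q hE hG (dimLE_of_isPure hE hp) hpE hpG
  let K : CSub E := CSub.mk (kernel.ι q) hKc
  have hsat : Sat k hamp hE hp K := fun C hKC hne => by
    have hφ : C.1.arrow ≫ q ≠ 0 := fun hz => hne (le_antisymm hKC
      (Subobject.le_mk_of_comm (kernel.lift q C.1.arrow hz) (kernel.lift_ι _ _ _)))
    obtain ⟨pI, hpI, hαI, hIc, -⟩ := image_data k hamp C.2 hG hGp hφ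
    obtain ⟨pN, hpN, eN, hNc, -⟩ := exists_hp_ker k hamp (Abelian.factorThruImage (C.1.arrow ≫ q)) C.2 hIc
      (dimLE_of_mono (dimLE_of_isPure hE hp) C.1.arrow) (pol_spec k hamp hE hp C) hpI
    let N : CSub E := CSub.mk (kernel.ι (Abelian.factorThruImage (C.1.arrow ≫ q)) ≫ C.1.arrow) hNc
    have hKN : K ≤ N := by
      refine Subobject.le_mk_of_comm (kernel.lift _ (Subobject.ofLE K.1 C.1 hKC) ?_) (by rw [← Category.assoc, kernel.lift_ι, Subobject.ofLE_arrow])
      rw [← cancel_mono (Abelian.image.ι (C.1.arrow ≫ q)), Category.assoc, Abelian.image.fac, Limits.zero_comp,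
        ← Category.assoc, Subobject.ofLE_arrow]
      show (Subobject.mk (kernel.ι q)).arrow ≫ q = 0
      rw [← Subobject.underlyingIso_hom_comp_eq_mk (kernel.ι q), Category.assoc, kernel.condition, Limits.comp_zero]
    have h1 := alpha_rel_nonneg k hamp hE hp hKN
    have e2 : pol k hamp hE hp C - pol k hamp hE hp K = (pol k hamp hE hp N - pol k hamp hE hp K) + pI := by
      rw [show pol k hamp hE hp N = pN from pol_mk k hamp hE hp _ hNc hpN]; linear_combination eN
    rw [e2, alpha_add]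
    linarith
  have hle := ((tmin_quot k ℓ hamp hE hp s O (hh.trans hO.symm) hl hall hdec i hi pF hm).2 K
    (show O.1 ≤ K.1 from hO.le.trans bot_le)).2 hsat (by
      rw [pol_mk k hamp hE hp _ hE hpE, show pol k hamp hE hp K = pK from pol_mk k hamp hE hp _ hKc hpK,
        show pE - pK = pG by rw [eK]; abel]
      exact hred)
  have hz : s.eraseLast.last.arrow ≫ q = 0 := by
    have h' : s.eraseLast.last ≤ K.1 := by rw [epen]; exact hle
    rw [← Subobject.ofLE_arrow h', Category.assoc]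
    show _ ≫ (Subobject.mk (kernel.ι q)).arrow ≫ q = 0
    rw [← Subobject.underlyingIso_hom_comp_eq_mk (kernel.ι q), Category.assoc, kernel.condition, Limits.comp_zero,
      Limits.comp_zero]
  let φ := cokernel.desc _ q hz
  haveI : Epi φ := by
    haveI : Epi (cokernel.π s.eraseLast.last.arrow ≫ φ) := by rw [cokernel.π_desc]; infer_instance
    exact epi_of_epi (cokernel.π s.eraseLast.last.arrow) φ
  have hFp : ShStab.IsPure X (cokernel s.eraseLast.last.arrow) d := isPure_of_mono (hall i).2.2.1 (eF.symm ≪≫ eI).hom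
  have hFc : Coh.IsCoh (cokernel s.eraseLast.last.arrow) := isCoh_of_iso (eI.symm ≪≫ eF) (hall i).1
  obtain ⟨pN, hpN, eN, hNc, -⟩ := exists_hp_ker k hamp φ hFc hG (dimLE_of_isPure hFc hFp) hpF hpG
  have hN0 : IsZero (kernel φ) := by
    by_contra hne
    have h1 := alpha_pos_of_isPure k hamp hNc hne (isPure_of_mono hFp (kernel.ι φ)) hpN
    rw [eN, alpha_add] at hα
    linarith
  haveI := isIso_of_isZero_kernel φ hN0
  exact ⟨asIso φ, cokernel.π_desc _ _ _⟩

end Groth.Agent.ShStabLib
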