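import Mathlib
import Groth.Prelude.Def_StabCat
/-!
Finite chains of subobjects built from the bottom, and the multiset of their factors.
-/

set_option autoImplicit false

universe v u

open CategoryTheory CategoryTheory.Limits StabCat

noncomputable section

namespace Groth.Agent.ShStabLib

section Preorder

variable {α : Type*} [Preorder α]

/-- Put a new element below a chain. -/
def consS (x : α) (s : LTSeries α) (h : x < s.head) : LTSeries α :=
  ⟨s.length + 1, Fin.cons x s.toFun, fun i => Fin.cases (by exact h) (fun j => by exact s.step j) i⟩

/-- The chain with one element. -/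
def singleS (x : α) : LTSeries α := ⟨0, fun _ => x, fun i => i.elim0⟩

theorem consS_head (x : α) (s : LTSeries α) (h : x < s.head) : (consS x s h).head = x := rfl

theorem consS_last (x : α) (s : LTSeries α) (h : x < s.head) : (consS x s h).last = s.last := rfl

theorem series_cases (s : LTSeries α) :
    s = singleS s.head ∨ ∃ (x : α) (s' : LTSeries α) (h : x < s'.head), s = consS x s' h := by
  obtain ⟨n, f, hf⟩ := s
  cases n with
  | zero =>
    left
    have e : f = fun _ => f 0 := funext fun i => congrArg f (Fin.fin_one_eq_zero i)
    show (⟨0, f, hf⟩ : LTSeries α) = ⟨0, fun _ => f 0, fun i => i.elim0⟩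
    congr 1
  | succ n =>
    right
    refine ⟨f 0, ⟨n, fun i => f i.succ, fun i => hf i.succ⟩, hf 0, ?_⟩
    show (⟨n + 1, f, hf⟩ : LTSeries α) = ⟨n + 1, Fin.cons (f 0) (fun i => f i.succ), _⟩
    congr 1
    exact (Fin.cons_self_tail f).symm

theorem series_induction {motive : LTSeries α → Prop} (base : ∀ x, motive (singleS x))
    (cons : ∀ x s h, motive s → motive (consS x s h)) (s : LTSeries α) : motive s := by
  suffices ∀ (n : ℕ) (s : LTSeries α), s.length = n → motive s from this _ s rfl
  intro n
  induction n with
  | zero =>
    intro s hn
    rcases series_cases s with h | ⟨x, s', hx, rfl⟩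
    · rw [h]; exact base _
    · simp [consS] at hn
  | succ n ih =>
    intro s hn
    rcases series_cases s with h | ⟨x, s', hx, rfl⟩
    · rw [h] at hn; simp [singleS] at hn
    · exact cons x s' hx (ih s' (by simpa [consS] using hn))

theorem head_le_last' (s : LTSeries α) : s.head ≤ s.last :=
  series_induction (motive := fun s => s.head ≤ s.last) (fun _ => le_rfl)
    (fun _ _ h ih => h.le.trans ih) s

end Preorder

variable {C : Type u} [Category.{v} C] [Abelian C] {E : C}

/-- A predicate on all factors. -/
def AllFct (Q : C → Prop) (s : LTSeries (Subobject E)) : Prop := ∀ i : Fin s.length, Q (factor s i)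

theorem allFct_single (Q : C → Prop) (x : Subobject E) : AllFct Q (singleS x) := fun i => i.elim0

theorem allFct_consS {Q : C → Prop} {x : Subobject E} {s : LTSeries (Subobject E)} {h : x < s.head} :
    AllFct Q (consS x s h) ↔ Q (cokernel (Subobject.ofLE x s.head h.le)) ∧ AllFct Q s :=
  ⟨fun H => ⟨H (⟨0, Nat.succ_pos _⟩ : Fin (s.length + 1)), fun i => H i.succ⟩,
    fun H i => Fin.cases (by exact H.1) (fun j => by exact H.2 j) i⟩

/-- The isomorphism class. -/
def cls (M : C) : Quotient (isIsomorphicSetoid C) := Quotient.mk _ M

theorem cls_eq_iff {M N : C} : cls M = cls N ↔ Nonempty (M ≅ N) := Quotient.eq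

/-- The classes of the factors. -/
def facs (s : LTSeries (Subobject E)) : Multiset (Quotient (isIsomorphicSetoid C)) :=
  Multiset.map (fun i => cls (factor s i)) Finset.univ.val

theorem card_facs (s : LTSeries (Subobject E)) : (facs s).card = s.length := by simp [facs]

theorem facs_single (x : Subobject E) : facs (singleS x) = 0 :=
  Multiset.card_eq_zero.1 (card_facs _)

theorem facs_consS (x : Subobject E) (s : LTSeries (Subobject E)) (h : x < s.head) :
    facs (consS x s h) = cls (cokernel (Subobject.ofLE x s.head h.le)) ::ₘ facs s := by
  show Multiset.map (fun i : Fin (s.length + 1) => cls (factor (consS x s h) i)) Finset.univ.val = _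
  rw [Fin.univ_succ, Finset.cons_val, Multiset.map_cons, Finset.map_val, Multiset.map_map]
  rfl

theorem length_eq_of_facs {s t : LTSeries (Subobject E)} (h : facs s = facs t) : s.length = t.length := by
  rw [← card_facs, h, card_facs]

theorem grObj_iso {s t : LTSeries (Subobject E)} (h : facs s = facs t) [HasFiniteCoproducts C] :
    Nonempty (grObj s ≅ grObj t) := by
  classical
  have hcard : ∀ c, Fintype.card {i : Fin s.length // cls (factor s i) = c} =
      Fintype.card {j : Fin t.length // cls (factor t j) = c} := fun c => by
    have e := congrArg (Multiset.count c) h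
    simp only [facs, Multiset.count_map] at e
    simp only [Fintype.card_subtype, Finset.card_def, Finset.filter_val]
    simpa only [eq_comm] using e
  let σ : Fin s.length ≃ Fin t.length :=
    Equiv.ofFiberEquiv (f := fun i => cls (factor s i)) (g := fun j => cls (factor t j))
      fun c => Fintype.equivOfCardEq (hcard c)
  have hσ : ∀ i, cls (factor t (σ i)) = cls (factor s i) := fun i =>
    Equiv.ofFiberEquiv_map (f := fun i => cls (factor s i)) (g := fun j => cls (factor t j))
      (fun c => Fintype.equivOfCardEq (hcard c)) i
  exact ⟨Sigma.whiskerEquiv σ fun i => (cls_eq_iff.1 (hσ i)).some⟩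

end Groth.Agent.ShStabLib
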