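import Groth.Agent.ShStabLib.Lattice
import Groth.Agent.ShStabLib.Hom
import Groth.Agent.ShStabLib.Series
/-!
Harder–Narasimhan filtrations of pure modules.
-/

set_option autoImplicit false
set_option backward.isDefEq.respectTransparency false
set_option linter.style.haveILetI false

universe u

open CategoryTheory CategoryTheory.Limits AlgebraicGeometry Polynomial TopologicalSpace
open Groth.Agent.DevLib Groth.Agent.QCohLib Groth.Agent.HilbLib StabCat

noncomputable section

namespace Groth.Agent.ShStabLib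

theorem cr_add_right {d : ℕ} {A B C : ℚ[X]} : cr d C (A + B) = cr d C A + cr d C B := by
  rw [cr_swap, cr_add_left, cr_swap (P := C), cr_swap (P := C) (Q := B), neg_add, neg_neg, neg_neg]

theorem alpha_pos_of_redLE {d : ℕ} {Q p : ℚ[X]} (hlc : 0 < Q.leadingCoeff) (hQ : 0 ≤ alpha d Q)
    (hp : 0 < alpha d p) (h : RedLE d Q p) : 0 < alpha d Q := by
  refine lt_of_le_of_ne hQ fun h0 => ?_
  rw [redLE_iff, cr, ← h0, zero_smul, zero_sub, leadingCoeff_neg, lc_smul] at h
  nlinarith

variable (k : Type u) [Field k] {X : Scheme.{u}} [X.Over (Spec (CommRingCat.of k))]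
  [IsProper (X ↘ Spec (CommRingCat.of k))] {L : X.Modules} {d : ℕ} {E : X.Modules}

/-- Semistable factors. -/
abbrev SFct (k : Type u) [Field k] [X.Over (Spec (CommRingCat.of k))] (L : X.Modules) (d : ℕ) (G : X.Modules) :
    Prop := ShStab.IsSemistable k X L G d

/-- Strictly decreasing reduced polynomials of the factors. -/
def Decr (k : Type u) [Field k] [X.Over (Spec (CommRingCat.of k))] (L : X.Modules) (d : ℕ)
    (s : LTSeries (Subobject E)) : Prop :=
  ∀ (i j : Fin s.length), i.val + 1 = j.val → ∀ (p q : ℚ[X]), HP k L (factor s i) p → HP k L (factor s j) q →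
    RedLT d q p

omit [IsProper (X ↘ Spec (CommRingCat.of k))] in
theorem decr_single (x : Subobject E) : Decr k L d (singleS x) := fun i => i.elim0

omit [IsProper (X ↘ Spec (CommRingCat.of k))] in
theorem decr_consS {x : Subobject E} {s : LTSeries (Subobject E)} {h : x < s.head} :
    Decr k L d (consS x s h) ↔ (∀ i : Fin s.length, i.val = 0 → ∀ (p q : ℚ[X]),
      HP k L (cokernel (Subobject.ofLE x s.head h.le)) p → HP k L (factor s i) q → RedLT d q p) ∧ Decr k L d s := by
  constructor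
  · exact fun H => ⟨fun i hi p q hp hq => H (⟨0, Nat.succ_pos _⟩ : Fin (s.length + 1)) i.succ
      (by show 0 + 1 = i.val + 1; rw [hi]) p q hp hq,
      fun i j hij p q hp hq => H i.succ j.succ (by show i.val + 1 + 1 = j.val + 1; omega) p q hp hq⟩
  · rintro ⟨H1, H2⟩ ⟨i, hi⟩ ⟨j, hj⟩ hij p q hp hq
    dsimp only at hij
    subst hij
    cases i with
    | zero => exact H1 ⟨0, Nat.lt_of_succ_lt_succ hj⟩ rfl p q hp hq
    | succ i => exact H2 ⟨i, Nat.lt_of_succ_lt_succ hi⟩ ⟨i + 1, Nat.lt_of_succ_lt_succ hj⟩ rfl p q hp hq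

omit [X.Over (Spec (CommRingCat.of k))] [IsProper (X ↘ Spec (CommRingCat.of k))] in
theorem head_eq_last {s : LTSeries (Subobject E)} (h : s.length = 0) : s.head = s.last := by
  rcases series_cases s with e | ⟨x, s', hx, rfl⟩
  · rw [e]; rfl
  · simp [consS] at h

theorem ext_coh (k : Type u) [Field k] [X.Over (Spec (CommRingCat.of k))]
    [IsProper (X ↘ Spec (CommRingCat.of k))] {A : CSub E} {B : Subobject E} (h : A.1 ≤ B)
    (hc : Coh.IsCoh (cokernel (Subobject.ofLE A.1 B h))) : Coh.IsCoh (B : X.Modules) :=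
  haveI := EulerIneqLib.isNoetherian_proper (X := X) k
  isCoh_X₂ (cokerSeq_shortExact (Subobject.ofLE A.1 B h)) A.2 hc

variable (hamp : CohB1.IsAmple L) (hE : Coh.IsCoh E) (hp : ShStab.IsPure X E d)

local notation "P" => pol k hamp hE hp

include hamp hE hp

theorem quot_le {A K B : CSub E} (hAK : A ≤ K) (hKB : K ≤ B)
    (hss : ShStab.IsSemistable k X L (cokernel (Subobject.ofLE A.1 B.1 (hAK.trans hKB))) d) :
    RedLE d (P B - P A) (P B - P K) := by
  let π : cokernel (Subobject.ofLE A.1 B.1 (hAK.trans hKB)) ⟶ cokernel (Subobject.ofLE K.1 B.1 hKB) :=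
    cokernel.desc _ (cokernel.π _)
      (by rw [← Subobject.ofLE_comp_ofLE A.1 K.1 B.1 hAK hKB, Category.assoc, cokernel.condition, Limits.comp_zero])
  haveI : Epi π := by
    haveI : Epi (cokernel.π (Subobject.ofLE A.1 B.1 (hAK.trans hKB)) ≫ π) := by
      rw [cokernel.π_desc]; infer_instance
    exact epi_of_epi (cokernel.π (Subobject.ofLE A.1 B.1 (hAK.trans hKB))) π
  obtain ⟨hc, -, hQ⟩ := fct_data k hamp hE hp hKB
  exact ss_quot k hamp hss π hc (fct_data k hamp hE hp (hAK.trans hKB)).2.2 hQ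

theorem sub_le {A K B : CSub E} (hAK : A ≤ K) (hKB : K ≤ B)
    (hss : ShStab.IsSemistable k X L (cokernel (Subobject.ofLE A.1 B.1 (hAK.trans hKB))) d) :
    RedLE d (P K - P A) (P B - P A) := by
  have h := quot_le k hamp hE hp hAK hKB hss
  rw [show P B - P A = (P K - P A) + (P B - P K) by abel, redLE_seesaw_right, ← redLE_seesaw_left] at h
  rwa [show P K - P A + (P B - P K) = P B - P A by abel] at h

theorem exists_hn (A : CSub E) : Sat k hamp hE hp A →
    ∃ s : LTSeries (Subobject E), s.head = A.1 ∧ s.last = ⊤ ∧ AllFct (SFct k L d) s ∧ Decr k L d s := by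
  haveI := EulerIneqLib.isNoetherian_proper (X := X) k
  haveI := wellFoundedGT_cSub hE
  induction A using WellFoundedGT.induction with
  | ind A ih =>
    intro hA
    by_cases htop : A.1 = ⊤
    · exact ⟨singleS A.1, rfl, htop, allFct_single _ _, decr_single k _⟩
    obtain ⟨B, hAB, hne, hB⟩ := exists_maxOver k hamp hE hp hA
      ⟨CSub.mk (𝟙 E) hE, Subobject.le_mk_of_comm A.1.arrow (Category.comp_id _),
        fun e => htop ((congrArg Subtype.val e).trans (Subobject.top_eq_id E).symm)⟩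
    have hBpos : 0 < alpha d (P B - P A) := hA B hAB hne
    have hsat : Sat k hamp hE hp B := fun C hBC hn => by
      refine lt_of_le_of_ne (alpha_rel_nonneg k hamp hE hp hBC) fun h0 => hn (le_antisymm hBC ?_)
      obtain ⟨Q, eQ, -, hlc, -⟩ := exists_pol_add k hamp hE hp hBC
      obtain ⟨h1, h2⟩ := hB C (hAB.trans hBC) fun e => hne (le_antisymm hAB (e ▸ hBC))
      refine h2 (redEq_of_le_of_le h1 ?_)
      rw [show P C - P A = (P B - P A) + Q by rw [eQ]; abel]
      exact redLE_add_of_alpha_eq_zero (by rw [show Q = P C - P B by rw [eQ]; abel]; exact h0.symm) hBpos.le hlc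
    obtain ⟨s, hhead, hlast, hall, hdec⟩ := ih B (lt_of_le_of_ne hAB hne) hsat
    obtain ⟨hc, hd, hR⟩ := fct_data k hamp hE hp hAB
    have hss : ShStab.IsSemistable k X L (cokernel (Subobject.ofLE A.1 B.1 hAB)) d := by
      refine ⟨hc, fun hz => rel_ne_zero k hamp hE hp hAB hne (hp_unique k hR fun m => by
        rw [eval_zero]; exact chi_isZero k hamp.1 hz m), isPure_fct k hamp hE hp hAB hA, fun G g _ hG hG0 _ pG pQ pg pq => ?_⟩
      obtain ⟨C, hAC, -, e⟩ := exists_preimage k hamp hE hp hAB g hG pg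
      rw [hp_unique k pq hR, ← e]
      exact (hB C hAC fun e' => hG0 (isZero_of_hp_zero k hamp hG (dimLE_of_mono hd g) (by
        rwa [show pG = 0 by rw [← e, e', sub_self]] at pg))).1
    obtain ⟨b, hb⟩ := B
    subst hhead
    refine ⟨consS A.1 s (lt_of_le_of_ne hAB fun e => hne (Subtype.ext e)), rfl, hlast,
      allFct_consS.2 ⟨hss, hall⟩, (decr_consS k).2 ⟨fun i hi p q hp' hq => ?_, hdec⟩⟩
    rcases series_cases s with e | ⟨y, s', hy, rfl⟩
    · have h0 : s.length = 0 := by rw [e]; rfl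
      exact absurd i.isLt (by omega)
    obtain ⟨hss', -⟩ := allFct_consS.1 hall
    obtain rfl : i = (⟨0, Nat.succ_pos _⟩ : Fin (s'.length + 1)) := Fin.ext hi
    let B : CSub E := ⟨y, hb⟩
    let C : CSub E := ⟨s'.head, ext_coh k (A := B) hy.le hss'.1⟩
    have hBC : B ≤ C := hy.le
    have hBC' : B ≠ C := fun e => hy.ne (congrArg Subtype.val e)
    obtain ⟨h1, h2⟩ := hB C (hAB.trans hBC) fun e => hne (le_antisymm hAB (e ▸ hBC))
    rw [hp_unique k hq (fct_data k hamp hE hp hBC).2.2, hp_unique k hp' hR]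
    rcases redLT_or_eq h1 with h1 | h1
    · rw [show P C - P A = (P B - P A) + (P C - P B) by abel, redLT_iff, cr_add_left] at h1
      have h1' : 0 < (cr d (P B - P A) (P B - P A) + cr d (P C - P B) (P B - P A)).leadingCoeff := h1
      rw [cr_self, zero_add] at h1'
      exact redLT_iff.2 h1'
    · exact absurd (le_antisymm hBC (h2 h1)) hBC'

theorem first_max (s : LTSeries (Subobject E)) : ∀ A : CSub E, s.head = A.1 → s.last = ⊤ →
    AllFct (SFct k L d) s → Decr k L d s → ∀ i : Fin s.length, i.val = 0 → ∀ p : ℚ[X], HP k L (factor s i) p →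
      ∀ C : CSub E, A ≤ C → A ≠ C →
        RedLE d (P C - P A) p ∧ (RedEq d (P C - P A) p → C.1 ≤ s.toFun i.succ) := by
  induction s using series_induction with
  | base x => intro A _ _ _ _ i; exact i.elim0
  | cons x s hx ih =>
    intro A hA hl hall hdec i hi p hpi C hAC hne
    obtain rfl : i = (⟨0, Nat.succ_pos _⟩ : Fin (s.length + 1)) := Fin.ext hi
    obtain ⟨hss, hall'⟩ := allFct_consS.1 hall
    obtain ⟨hd1, hdec'⟩ := (decr_consS k).1 hdec
    obtain ⟨a, ha⟩ := A
    obtain rfl : x = a := hA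
    let A : CSub E := ⟨x, ha⟩
    let B : CSub E := ⟨s.head, ext_coh k (A := A) hx.le hss.1⟩
    have hAB : A ≤ B := hx.le
    rw [hp_unique k hpi (fct_data k hamp hE hp hAB).2.2]
    show _ ∧ (_ → C.1 ≤ B.1)
    by_cases hCB : C ≤ B
    · exact ⟨sub_le k hamp hE hp hAC hCB hss, fun _ => hCB⟩
    obtain ⟨K, H, hCH, hBH, hKC, hKB, huniv, -, e⟩ := exists_inf_sup k hamp hE hp C B
    have hAK : A ≤ K := huniv A hAC hAB
    have hHB : B ≠ H := fun h => hCB (h ▸ hCH)
    have hlen : 0 < s.length := by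
      rcases Nat.eq_zero_or_pos s.length with h | h
      · exfalso
        refine hHB (Subtype.ext (le_antisymm hBH ?_))
        show H.1 ≤ s.head
        rw [head_eq_last h, show s.last = ⊤ from hl]
        exact le_top
      · exact h
    have hi2 := hall' ⟨0, hlen⟩
    obtain ⟨p2, -, hp2⟩ := exists_hp k hamp hi2.1 (dimLE_of_isPure hi2.1 hi2.2.2.1)
    obtain ⟨h2, -⟩ := ih B rfl hl hall' hdec' ⟨0, hlen⟩ rfl p2 hp2 H hBH hHB
    have h21 : RedLT d p2 (P B - P A) := hd1 ⟨0, hlen⟩ rfl _ p2 (fct_data k hamp hE hp hAB).2.2 hp2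
    have hp2pos := alpha_pos_of_isPure k hamp hi2.1 hi2.2.1 hi2.2.2.1 hp2
    obtain ⟨Q, eQ, hQ, -, hQne⟩ := exists_pol_add k hamp hE hp hBH
    have eQ' : P H - P B = Q := by rw [eQ]; abel
    rw [eQ'] at h2
    have h3 := redLT_of_le_of_lt hp2pos (alpha_pos_of_redLE (hQne hHB) hQ hp2pos h2)
      (alpha_rel_nonneg k hamp hE hp hAB) h2 h21
    have hlt : RedLT d (P C - P A) (P B - P A) := by
      rw [show P C - P A = Q + (P K - P A) by rw [← eQ']; linear_combination e, redLT_iff, cr_add_left]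
      exact lc_add_pos (redLT_iff.1 h3) (redLE_iff.1 (sub_le k hamp hE hp hAK hKB hss))
    exact ⟨redLE_of_lt hlt, fun he => absurd he (not_redEq_of_lt hlt)⟩

theorem hn_unique (s : LTSeries (Subobject E)) : ∀ (t : LTSeries (Subobject E)) (A : CSub E),
    s.head = A.1 → t.head = A.1 → s.last = ⊤ → t.last = ⊤ → AllFct (SFct k L d) s → Decr k L d s →
      AllFct (SFct k L d) t → Decr k L d t → s = t := by
  induction s using series_induction with
  | base x =>
    intro t A hs ht hsl htl _ _ _ _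
    rcases series_cases t with e | ⟨y, t', hy, rfl⟩
    · rw [e, ht, ← hs]; rfl
    · exfalso
      exact (hy.trans_le (head_le_last' t')).ne ((ht.trans (hs.symm.trans hsl)).trans htl.symm)
  | cons x s hx ih =>
    intro t A hs ht hsl htl hall hdec hallt hdect
    rcases series_cases t with e | ⟨y, t', hy, rfl⟩
    · exfalso
      rw [e] at htl
      exact (hx.trans_le (head_le_last' s)).ne ((hs.trans (ht.symm.trans htl)).trans hsl.symm)
    obtain ⟨a, ha⟩ := A
    obtain rfl : x = a := hs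
    obtain rfl : y = x := ht
    let A : CSub E := ⟨y, ha⟩
    obtain ⟨hss, hall'⟩ := allFct_consS.1 hall
    obtain ⟨hsst, hallt'⟩ := allFct_consS.1 hallt
    let B : CSub E := ⟨s.head, ext_coh k (A := A) hx.le hss.1⟩
    let B' : CSub E := ⟨t'.head, ext_coh k (A := A) hy.le hsst.1⟩
    have hB := fct_data k hamp hE hp (A := A) (B := B) hx.le
    have hB' := fct_data k hamp hE hp (A := A) (B := B') hy.le
    obtain ⟨a1, b1⟩ := first_max k hamp hE hp (consS y s hx) A rfl hsl hall hdec (⟨0, Nat.succ_pos _⟩ : Fin (s.length + 1)) rfl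
      (P B - P A) hB.2.2 B' hy.le fun e => hy.ne (congrArg Subtype.val e)
    obtain ⟨a2, b2⟩ := first_max k hamp hE hp (consS y t' hy) A rfl htl hallt hdect (⟨0, Nat.succ_pos _⟩ : Fin (t'.length + 1)) rfl
      (P B' - P A) hB'.2.2 B hx.le fun e => hx.ne (congrArg Subtype.val e)
    have he := redEq_of_le_of_le a1 a2
    have hBB : s.head = t'.head := le_antisymm (b2 (redEq_symm he)) (b1 he)
    obtain rfl := ih t' B rfl hBB.symm hsl htl hall' ((decr_consS k).1 hdec).2 hallt' ((decr_consS k).1 hdect).2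
    rfl

theorem pmin_le (s : LTSeries (Subobject E)) : ∀ A : CSub E, s.head = A.1 → s.last = ⊤ →
    AllFct (SFct k L d) s → Decr k L d s → ∀ i : Fin s.length, i.val + 1 = s.length → ∀ pm : ℚ[X],
      HP k L (factor s i) pm →
        (∀ j : Fin s.length, j.val = 0 → ∀ p, HP k L (factor s j) p → RedLE d pm p) ∧
        ∀ K : CSub E, A ≤ K → RedLE d pm (P (CSub.mk (𝟙 E) hE) - P K) := by
  induction s using series_induction with
  | base x => intro A _ _ _ _ i; exact i.elim0
  | cons x s hx ih =>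
    intro A hA hl hall hdec i hi pm hpm
    obtain ⟨hss, hall'⟩ := allFct_consS.1 hall
    obtain ⟨hd1, hdec'⟩ := (decr_consS k).1 hdec
    obtain ⟨a, ha⟩ := A
    obtain rfl : x = a := hA
    let A : CSub E := ⟨x, ha⟩
    let B : CSub E := ⟨s.head, ext_coh k (A := A) hx.le hss.1⟩
    have hAB : A ≤ B := hx.le
    have hR := (fct_data k hamp hE hp hAB).2.2
    have hRpos := alpha_pos_of_isPure k hamp hss.1 hss.2.1 hss.2.2.1 hR
    obtain ⟨i, hilt⟩ := i
    cases i with
    | zero =>
      have hs0 : s.length = 0 := by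
        have : 0 + 1 = s.length + 1 := hi
        omega
      rw [hp_unique k hpm hR]
      refine ⟨fun j hj p hpj => ?_, fun K hAK => ?_⟩
      · obtain rfl : j = (⟨0, hilt⟩ : Fin (s.length + 1)) := Fin.ext hj
        rw [hp_unique k hpj hR]; exact redLE_of_eq redEq_refl
      · have hBT : CSub.mk (𝟙 E) hE = B := Subtype.ext (by
          show Subobject.mk (𝟙 E) = s.head
          rw [head_eq_last hs0, ← Subobject.top_eq_id]; exact hl.symm)
        rw [hBT]
        exact quot_le k hamp hE hp hAK (by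
          rw [← hBT]; exact Subobject.le_mk_of_comm K.1.arrow (Category.comp_id _)) hss
    | succ i =>
      have hi' : i + 1 = s.length := by
        have : i + 1 + 1 = s.length + 1 := hi
        omega
      obtain ⟨h1, h2⟩ := ih B rfl hl hall' hdec' ⟨i, Nat.lt_of_succ_lt_succ hilt⟩ hi' pm hpm
      have hlen : 0 < s.length := by omega
      have hs0 := hall' ⟨0, hlen⟩
      have hsm := hall' ⟨i, Nat.lt_of_succ_lt_succ hilt⟩
      obtain ⟨p2, -, hp2⟩ := exists_hp k hamp hs0.1 (dimLE_of_isPure hs0.1 hs0.2.2.1)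
      have hm0 : 0 ≤ alpha d pm := (alpha_pos_of_isPure k hamp hsm.1 hsm.2.1 hsm.2.2.1 hpm).le
      have hle : RedLE d pm (P B - P A) := redLE_trans (alpha_pos_of_isPure k hamp hs0.1 hs0.2.1 hs0.2.2.1 hp2) hm0
        hRpos.le (h1 ⟨0, hlen⟩ rfl p2 hp2) (redLE_of_lt (hd1 ⟨0, hlen⟩ rfl _ p2 hR hp2))
      refine ⟨fun j hj p hpj => ?_, fun K hAK => ?_⟩
      · obtain rfl : j = (⟨0, Nat.succ_pos _⟩ : Fin (s.length + 1)) := Fin.ext hj
        rw [hp_unique k hpj hR]; exact hle
      · obtain ⟨K', H, hKH, hBH, -, hKB, huniv, -, e⟩ := exists_inf_sup k hamp hE hp K B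
        have hAK' : A ≤ K' := huniv A hAK hAB
        rw [show P (CSub.mk (𝟙 E) hE) - P K = (P (CSub.mk (𝟙 E) hE) - P H) + (P B - P K') by linear_combination -e,
          redLE_iff, cr_add_right]
        exact lc_add_nonneg (redLE_iff.1 (h2 H hBH)) (redLE_iff.1 (redLE_trans hRpos hm0
          (alpha_rel_nonneg k hamp hE hp hKB) hle (quot_le k hamp hE hp hAK' hKB hss)))

end Groth.Agent.ShStabLib
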