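import Groth.Agent.ShStabLib.Compare
/-!
Hilbert polynomials grow along monomorphisms.
-/

set_option autoImplicit false
set_option backward.isDefEq.respectTransparency false
set_option linter.style.haveILetI false

universe u

open CategoryTheory CategoryTheory.Limits AlgebraicGeometry Polynomial TopologicalSpace
open Groth.Agent.DevLib Groth.Agent.QCohLib Groth.Agent.HilbLib StabCat

noncomputable section

namespace Groth.Agent.ShStabLib

variable (k : Type u) [Field k] {X : Scheme.{u}} [X.Over (Spec (CommRingCat.of k))]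
  [IsProper (X ↘ Spec (CommRingCat.of k))] {L : X.Modules} (hamp : CohB1.IsAmple L)
include hamp

theorem chi_eventually_nonneg {M : X.Modules} (hM : Coh.IsCoh M) :
    ∃ n₀ : ℕ, ∀ m, n₀ ≤ m → 0 ≤ chi k L M m := by
  obtain ⟨n₀, hn₀⟩ := AmpleEmb.serre_vanishing (X ↘ Spec (CommRingCat.of k)) hamp hM
  refine ⟨n₀, fun m hm => ?_⟩
  have h := CurveLib.euler_eq_sum (K := k) (ShStab.twist X L M m) 1 fun p hp => hn₀ m hm p hp
  simp only [Finset.range_one, Finset.sum_singleton, pow_zero, one_mul] at h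
  show (0 : ℚ) ≤ ((Curv2.euler k X _ : ℤ) : ℚ)
  rw [h]
  exact_mod_cast Nat.zero_le _

theorem polyLE_and_alpha_eq {d : ℕ} {E E' : X.Modules} (hE : Coh.IsCoh E) (hE' : Coh.IsCoh E') (ι : E ⟶ E')
    [Mono ι] {pE pE' : ℚ[X]} (pe : HP k L E pE) (pe' : HP k L E' pE') :
    PolyLE pE pE' ∧ (topologicalKrullDim (CohB1.support (cokernel ι)) < (d : WithBot ℕ∞) →
      alpha d pE = alpha d pE') := by
  haveI := EulerIneqLib.isNoetherian_proper (X := X) k
  have hc := (isCoh_kernel_cokernel ι hE hE').2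
  refine ⟨?_, fun h => ?_⟩
  · obtain ⟨n₀, hn₀⟩ := chi_eventually_nonneg k hamp hc
    refine ⟨n₀, fun m hm => ?_⟩
    have h1 : chi k L E m = pE.eval (m : ℚ) := pe m
    have h2 : chi k L E' m = pE'.eval (m : ℚ) := pe' m
    linarith [chi_coker k hamp.1 ι hE hE' m, hn₀ m hm]
  · obtain ⟨Q, hQ, hQ'⟩ := exists_poly k hamp.1 d _ hc h
    have e : pE' = pE + Q := poly_eq_of_nat fun m => by
      rw [eval_add, ← pe m, ← pe' m, ← hQ' m]
      exact chi_coker k hamp.1 ι hE hE' m
    rw [e, alpha_add, alpha, alpha, (degree_lt_iff_coeff_zero Q d).1 hQ d le_rfl, mul_zero, add_zero]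

end Groth.Agent.ShStabLib
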