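import Groth.Agent.ShStabLib.Hom
import Groth.Agent.ShStabLib.Noeth
/-!
Saturation of submodules of pure modules.
-/

set_option autoImplicit false
set_option backward.isDefEq.respectTransparency false
set_option linter.style.haveILetI false

universe u

open CategoryTheory CategoryTheory.Limits AlgebraicGeometry Polynomial TopologicalSpace
open Groth.Agent.DevLib Groth.Agent.QCohLib Groth.Agent.HilbLib StabCat

noncomputable section

namespace Groth.Agent.ShStabLib

variable {X : Scheme.{u}}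

theorem le_of_lt_natCast_add_one (a : WithBot ℕ∞) (d : ℕ) (h : a < ((d + 1 : ℕ) : WithBot ℕ∞)) :
    a ≤ (d : WithBot ℕ∞) := by
  cases a with
  | bot => exact bot_le
  | coe b =>
    have h' : b < ((d + 1 : ℕ) : ℕ∞) := by exact_mod_cast h
    obtain ⟨n, rfl⟩ := ENat.ne_top_iff_exists.1 (ne_top_of_lt h')
    have h'' : n < d + 1 := by exact_mod_cast h'
    exact_mod_cast Nat.lt_succ_iff.1 h''

theorem dim_eq_of_not_lt {d : ℕ} {M : X.Modules} (hd : DimLE d M)
    (h : ¬ topologicalKrullDim (CohB1.support M) < (d : WithBot ℕ∞)) :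
    topologicalKrullDim (CohB1.support M) = (d : WithBot ℕ∞) :=
  le_antisymm (le_of_lt_natCast_add_one _ d hd) (not_lt.1 h)

variable (k : Type u) [Field k] [X.Over (Spec (CommRingCat.of k))]
  [IsProper (X ↘ Spec (CommRingCat.of k))] {L : X.Modules} {d : ℕ} (hamp : CohB1.IsAmple L)
include hamp

/-- Every submodule lies in a saturated one of the same multiplicity. -/
theorem exists_saturation {E : X.Modules} (hE : Coh.IsCoh E) (hp : ShStab.IsPure X E d) {F : X.Modules}
    (ι : F ⟶ E) [Mono ι] (hF : Coh.IsCoh F) {pF : ℚ[X]} (pf : HP k L F pF) :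
    ∃ (F' : X.Modules) (ι' : F' ⟶ E) (j : F ⟶ F') (pF' : ℚ[X]), Mono ι' ∧ j ≫ ι' = ι ∧ Coh.IsCoh F' ∧
      HP k L F' pF' ∧ ShStab.IsPure X (cokernel ι') d ∧ alpha d pF' = alpha d pF ∧ RedLE d pF pF' := by
  haveI := EulerIneqLib.isNoetherian_proper (X := X) k
  have hdE := dimLE_of_isPure hE hp
  let A := CSub.mk ι hF
  have pA : HP k L (A.1 : X.Modules) pF := hp_iso k (Subobject.underlyingIso ι).symm pf
  obtain ⟨B, hAB, ⟨pB, hpB, hαB⟩, hmax⟩ := exists_maximal hE
    (fun B : CSub E => ∃ pB : ℚ[X], HP k L (B.1 : X.Modules) pB ∧ alpha d pB = alpha d pF) (A := A) ⟨pF, pA, rfl⟩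
  have hdB : DimLE d (B.1 : X.Modules) := dimLE_of_mono hdE B.1.arrow
  obtain ⟨pE, -, hpE⟩ := exists_hp k hamp hE hdE
  obtain ⟨pC, hpC, e, hC, hdC⟩ := exists_hp_coker k hamp B.1.arrow B.2 hE hdE hpB hpE
  refine ⟨(B.1 : X.Modules), B.1.arrow, (Subobject.underlyingIso ι).inv ≫ Subobject.ofLE A.1 B.1 hAB, pB,
    inferInstance, ?_, B.2, hpB, ?_, hαB, ?_⟩
  · rw [Category.assoc, Subobject.ofLE_arrow]
    exact Subobject.underlyingIso_arrow ι
  · intro G g _ hG hG0
    refine dim_eq_of_not_lt (dimLE_of_mono hdC g) fun hlt => ?_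
    obtain ⟨pG, hpG', hpG⟩ := exists_hp k hamp hG (dimLE_of_mono hdC g)
    obtain ⟨pD, hpD, eD, hD, hdD⟩ := exists_hp_coker k hamp g hG hC hdC hpG hpC
    let π : E ⟶ cokernel g := cokernel.π B.1.arrow ≫ cokernel.π g
    obtain ⟨pK, hpK, eK, hK, hdK⟩ := exists_hp_ker k hamp π hE hD hdE hpE hpD
    have e' : pK = pB + pG := by rw [eD] at e; linear_combination e - eK
    let K := CSub.mk (kernel.ι π) hK
    have hBK : B ≤ K := Subobject.le_mk_of_comm
      (kernel.lift π B.1.arrow (by simp only [π, cokernel.condition_assoc, Limits.zero_comp])) (kernel.lift_ι _ _ _)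
    have pK' : HP k L (K.1 : X.Modules) pK := hp_iso k (Subobject.underlyingIso (kernel.ι π)).symm hpK
    have hKB : K = B := hmax K ⟨pK, pK', by
      rw [e', alpha_add, alpha_eq_zero k hamp hG hlt hpG, add_zero, hαB]⟩ hBK
    rw [hKB] at pK'
    have hpG0 : pG = 0 := by
      have := (hp_unique k pK' hpB).symm.trans e'
      exact left_eq_add.1 this
    exact hG0 (isZero_of_hp_zero k hamp hG (dimLE_of_mono hdC g) (hpG0 ▸ hpG))
  · obtain ⟨pQ, hpQ, eQ, hQ, hdQ⟩ := exists_hp_coker k hamp (Subobject.ofLE A.1 B.1 hAB) A.2 B.2 hdB pA hpB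
    rw [eQ]
    refine redLE_add_of_alpha_eq_zero ?_ (alpha_nonneg k hamp hF (dimLE_of_mono hdE ι) pf) (lc_nonneg k hamp hQ hdQ hpQ)
    rw [eQ, alpha_add] at hαB
    exact add_eq_left.1 hαB

end Groth.Agent.ShStabLib
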