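import Groth.Agent.ShStabLib.Hom
/-!
Slopes of morphisms and extensions of slope-semistable modules.
-/

set_option autoImplicit false
set_option backward.isDefEq.respectTransparency false
set_option linter.style.haveILetI false

universe u

open CategoryTheory CategoryTheory.Limits AlgebraicGeometry Polynomial TopologicalSpace
open Groth.Agent.DevLib Groth.Agent.QCohLib Groth.Agent.HilbLib StabCat

noncomputable section

namespace Groth.Agent.ShStabLib

variable (k : Type u) [Field k] {X : Scheme.{u}} [X.Over (Spec (CommRingCat.of k))]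
  [IsProper (X ↘ Spec (CommRingCat.of k))] {L : X.Modules} {n : ℕ} {E I : X.Modules} {pE pI : ℚ[X]}

variable (hamp : CohB1.IsAmple L) (hn : 1 ≤ n) (hp : ShStab.IsPure X E n) (hE : ShStab.IsMuSemistable k X L E n)
include hamp hn hp hE

theorem slope_sub (ι : I ⟶ E) [Mono ι] (hI : Coh.IsCoh I) (pi : HP k L I pI) (pe : HP k L E pE) :
    alpha (n - 1) pI ≤ hatSlope n pE * alpha n pI := by
  haveI := EulerIneqLib.isNoetherian_proper (X := X) k
  by_cases h0 : IsZero I
  · rw [hp_unique k pi (Q := 0) fun m => by rw [eval_zero]; exact chi_isZero k hamp.1 h0 m]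
    simp [alpha_zero]
  have hd := dimLE_of_isPure hE.1 hp
  have hpos := alpha_pos_of_isPure k hamp hI h0 (isPure_of_mono hp ι) pi
  rcases (alpha_le_of_mono k hamp ι hI hE.1 hd pi pe).lt_or_eq with hlt | heq
  · have h := hE.2.2.2.2 I ι inferInstance hI pI pE pi pe hpos hlt
    rw [hatSlope, div_le_iff₀ hpos] at h
    exact h
  · obtain ⟨Q, hQ, e, hQc, hQd⟩ := exists_hp_coker k hamp ι hI hE.1 hd pi pe
    rw [e, alpha_add, left_eq_add] at heq
    have hQd' : DimLE (n - 1) (cokernel ι) := by
      show topologicalKrullDim (CohB1.support (cokernel ι)) < ((n - 1 + 1 : ℕ) : WithBot ℕ∞)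
      rw [Nat.sub_add_cancel hn]
      by_contra hnot
      exact (alpha_pos k hamp hQc hQd hnot hQ).ne' heq
    rw [hatSlope, e, alpha_add, alpha_add, heq, add_zero, div_mul_cancel₀ _ hpos.ne']
    linarith [alpha_nonneg k hamp hQc hQd' hQ]

theorem slope_quot (π : E ⟶ I) [Epi π] (hI : Coh.IsCoh I) (pi : HP k L I pI) (pe : HP k L E pE) :
    hatSlope n pE * alpha n pI ≤ alpha (n - 1) pI := by
  obtain ⟨pK, hK, e, hKc, -⟩ := exists_hp_ker k hamp π hE.1 hI (dimLE_of_isPure hE.1 hp) pe pi
  have h := slope_sub k hamp hn hp hE (kernel.ι π) hKc hK pe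
  have hpos := alpha_pos_of_isPure k hamp hE.1 hE.2.1 hp pe
  have h1 : hatSlope n pE * alpha n pE = alpha (n - 1) pE := by rw [hatSlope, div_mul_cancel₀ _ hpos.ne']
  rw [congrArg (alpha (n - 1)) e, congrArg (alpha n) e, alpha_add, alpha_add, mul_add] at h1
  linarith

end Groth.Agent.ShStabLib
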